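import Cfsg.Agent.Lib.Blocks.Orth
import Cfsg.Agent.Lib.Blocks.SmallAlgebra
import Mathlib.LinearAlgebra.Matrix.Charpoly.Basic

/-!
# The number of simple modular representations

A semisimple quotient of the group algebra with nilpotent kernel has as many factors as there are
classes of elements of order prime to the characteristic.
-/

set_option linter.unusedSectionVars false
set_option linter.unusedVariables false
set_option autoImplicit false

namespace CfsgLib.ModularWeights

open MonoidAlgebra Matrix
open scoped Classical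

section Tracelike

variable {k : Type*} [Field k] {r : ℕ} {d : Fin r → ℕ}

/-- A functional with `g (x y) = g (y x)` on a product of matrix algebras is a combination of the
traces. -/
theorem trace_combination [∀ i, NeZero (d i)]
    (g : (Π i, Matrix (Fin (d i)) (Fin (d i)) k) →ₗ[k] k) (hg : ∀ x y, g (x * y) = g (y * x)) :
    ∃ c : Fin r → k, ∀ x, g x = ∑ i, c i * (x i).trace := by
  let E : ∀ i, Fin (d i) → Fin (d i) → Π j, Matrix (Fin (d j)) (Fin (d j)) k := fun i a b =>
    Pi.single i (Matrix.single a b 1)
  have hEE : ∀ i a b c, E i a b * E i b c = E i a c := fun i a b c => by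
    simp only [E, ← Pi.single_mul, Matrix.single_mul_single_same, mul_one]
  have hEE0 : ∀ i a b c c', b ≠ c → E i a b * E i c c' = 0 := fun i a b c c' h => by
    simp only [E, ← Pi.single_mul, Matrix.single_mul_single_of_ne _ _ _ _ h, Pi.single_zero]
  have hoff : ∀ i a b, a ≠ b → g (E i a b) = 0 := fun i a b h => by
    rw [← hEE i a a b, hg, hEE0 i a b a a (Ne.symm h), map_zero]
  have hdiag : ∀ i a b, g (E i a a) = g (E i b b) := fun i a b => by
    rw [← hEE i a b a, hg, hEE]
  refine ⟨fun i => g (E i 0 0), fun x => ?_⟩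
  have hx : x = ∑ i, ∑ a, ∑ b, x i a b • E i a b := by
    conv_lhs => rw [← Finset.univ_sum_single x]
    refine Finset.sum_congr rfl fun i _ => ?_
    conv_lhs => rw [matrix_eq_sum_single (x i)]
    change LinearMap.single k (fun j => Matrix (Fin (d j)) (Fin (d j)) k) i
      (∑ a, ∑ b, Matrix.single a b (x i a b)) = _
    simp only [map_sum, LinearMap.single_apply, E, ← Pi.single_smul, Matrix.smul_single, smul_eq_mul,
      mul_one]
  conv_lhs => rw [hx]
  simp only [map_sum, map_smul, smul_eq_mul]
  refine Finset.sum_congr rfl fun i _ => ?_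
  rw [Matrix.trace, Finset.mul_sum]
  refine Finset.sum_congr rfl fun a _ => ?_
  rw [Finset.sum_eq_single a (fun b _ hb => by rw [hoff i a b (Ne.symm hb), mul_zero])
    (fun h => absurd (Finset.mem_univ a) h), hdiag i a 0, mul_comm]
  rfl

end Tracelike

section Perm

variable (k : Type*) [Field k] {X : Type*} [Fintype X] [DecidableEq X]

/-- Permutation matrices. -/
noncomputable def permMat : Equiv.Perm X →* Matrix X X k where
  toFun σ := Matrix.of fun x y => if x = σ y then 1 else 0
  map_one' := by ext x y; simp [Matrix.one_apply]; split_ifs <;> simp_all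
  map_mul' σ τ := by ext x y; simp [Matrix.mul_apply]; split_ifs <;> simp_all

theorem trace_permMat (σ : Equiv.Perm X) :
    (permMat k σ).trace = (Nat.card {x : X // σ x = x} : k) := by
  rw [Nat.card_eq_fintype_card, Fintype.card_subtype, Matrix.trace]
  simp [permMat, eq_comm, Finset.sum_boole]

end Perm

variable {k : Type*} [Field k] (p : ℕ) [Fact p.Prime] [CharP k p]
variable {G : Type*} [Group G] [Finite G]

theorem regular_mul {s z : G} (hc : Commute s z) (hs : (orderOf s).Coprime p)
    (hz : ∃ j, orderOf z = p ^ j) (hsz : (orderOf (s * z)).Coprime p) : z = 1 := by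
  obtain ⟨j, hj⟩ := hz
  have hcop : (orderOf s).Coprime (orderOf z) := by rw [hj]; exact hs.pow_right j
  have h := hc.orderOf_mul_eq_mul_orderOf_of_coprime hcop
  rw [h] at hsz
  have h2 : (orderOf z).Coprime p := hsz.coprime_dvd_left (dvd_mul_left _ _)
  rw [hj] at h2
  rcases Nat.eq_zero_or_pos j with rfl | hj0
  · rw [pow_zero] at hj; exact orderOf_eq_one_iff.1 hj
  · have := h2.coprime_dvd_left (dvd_pow_self p hj0.ne')
    rw [Nat.coprime_self] at this
    exact absurd this (Fact.out : p.Prime).one_lt.ne'

/-- For a regular element a functional with `f (ab) = f (ba)` which kills nilpotent ideals and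
singles out its class. -/
theorem exists_class_functional {s : G} (hs : (orderOf s).Coprime p) :
    ∃ f : MonoidAlgebra k G →ₗ[k] k, (∀ a b, f (a * b) = f (b * a)) ∧
      (∀ a, IsNilpotent a → f a = 0) ∧ f (MonoidAlgebra.of k G s) ≠ 0 ∧
      ∀ t : G, (orderOf t).Coprime p → ¬ IsConj s t → f (MonoidAlgebra.of k G t) = 0 := by
  haveI := Fintype.ofFinite G
  let C : Subgroup G := Subgroup.centralizer {s}
  obtain ⟨P0⟩ : Nonempty (Sylow p C) := inferInstance
  let P : Subgroup G := (P0 : Subgroup C).map C.subtype
  have hPC : ∀ z ∈ P, Commute s z := by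
    rintro _ ⟨z, -, rfl⟩
    exact ((Subgroup.mem_centralizer_singleton_iff.1 z.2).symm)
  have hPp : ∀ z ∈ P, ∃ j, orderOf z = p ^ j := by
    rintro _ ⟨z, hz, rfl⟩
    obtain ⟨j, hj⟩ := P0.isPGroup' (⟨z, hz⟩ : ↥(P0 : Subgroup C))
    have h1 : (C.subtype z) ^ p ^ j = 1 := by
      have := congrArg (fun y : ↥(P0 : Subgroup C) => C.subtype (y : C)) hj
      simpa using this
    obtain ⟨e, -, he⟩ := (Nat.dvd_prime_pow (Fact.out : p.Prime)).1 (orderOf_dvd_of_pow_eq_one h1)
    exact ⟨e, he⟩
  let rf : G ⧸ P → G ⧸ P := fun x => Quotient.liftOn' x (fun g => QuotientGroup.mk (g * s⁻¹))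
    (fun a b h => by
      rw [QuotientGroup.leftRel_apply] at h
      refine QuotientGroup.eq.2 ?_
      have e : (a * s⁻¹)⁻¹ * (b * s⁻¹) = a⁻¹ * b := by
        rw [_root_.mul_inv_rev, inv_inv, mul_assoc, ← mul_assoc a⁻¹, ← (hPC _ h).inv_left.eq,
          mul_inv_cancel_left]
      rwa [e])
  let rg : G ⧸ P → G ⧸ P := fun x => Quotient.liftOn' x (fun g => QuotientGroup.mk (g * s))
    (fun a b h => by
      rw [QuotientGroup.leftRel_apply] at h
      refine QuotientGroup.eq.2 ?_
      have e : (a * s)⁻¹ * (b * s) = a⁻¹ * b := by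
        rw [_root_.mul_inv_rev, mul_assoc, ← mul_assoc a⁻¹, ← (hPC _ h).eq, inv_mul_cancel_left]
      rwa [e])
  let R : Equiv.Perm (G ⧸ P) :=
    ⟨rf, rg,
      fun x => QuotientGroup.induction_on x fun g => by
        show QuotientGroup.mk (g * s⁻¹ * s) = _; rw [inv_mul_cancel_right],
      fun x => QuotientGroup.induction_on x fun g => by
        show QuotientGroup.mk (g * s * s⁻¹) = _; rw [mul_inv_cancel_right]⟩
  let act : G →* Equiv.Perm (G ⧸ P) := MulAction.toPermHom G (G ⧸ P)
  have hR : ∀ g, act g * R = R * act g := fun g => Equiv.ext fun x =>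
    QuotientGroup.induction_on x fun a => by
      show (QuotientGroup.mk (g * (a * s⁻¹)) : G ⧸ P) = QuotientGroup.mk (g * a * s⁻¹)
      rw [mul_assoc]
  let A : MonoidAlgebra k G →ₐ[k] Matrix (G ⧸ P) (G ⧸ P) k :=
    MonoidAlgebra.lift k _ G ((permMat k).comp act)
  let M : Matrix (G ⧸ P) (G ⧸ P) k := permMat k R
  have hcomm : ∀ a, Commute (A a) M := by
    intro a
    induction a using MonoidAlgebra.induction_on with
    | of g =>
      show A (MonoidAlgebra.of k G g) * M = M * A (MonoidAlgebra.of k G g)
      simp only [A, MonoidAlgebra.lift_of, M, MonoidHom.comp_apply, ← map_mul, hR]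
    | add x y hx hy => rw [map_add]; exact hx.add_left hy
    | smul c x hx => rw [map_smul]; exact hx.smul_left c
  let f : MonoidAlgebra k G →ₗ[k] k :=
    (Matrix.traceLinearMap _ k k).comp ((LinearMap.mulRight k M).comp A.toLinearMap)
  have hf : ∀ a, f a = (A a * M).trace := fun a => rfl
  have hfg : ∀ t, f (MonoidAlgebra.of k G t) =
      (Nat.card {x : G ⧸ P // (act t * R) x = x} : k) := fun t => by
    rw [hf]
    simp only [A, MonoidAlgebra.lift_of, MonoidHom.comp_apply, M, ← map_mul, trace_permMat]
  have hfix : ∀ t u : G, (act t * R) (QuotientGroup.mk u) = QuotientGroup.mk u ↔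
      s * (u⁻¹ * t⁻¹ * u) ∈ P := fun t u => by
    show (QuotientGroup.mk (t * (u * s⁻¹)) : G ⧸ P) = QuotientGroup.mk u ↔ _
    rw [QuotientGroup.eq]
    constructor <;> intro h <;> · convert h using 1; group
  refine ⟨f, fun a b => ?_, fun a ha => ?_, ?_, fun t ht hst => ?_⟩
  · rw [hf, hf, map_mul, map_mul, Matrix.mul_assoc, Matrix.trace_mul_comm, Matrix.mul_assoc,
      ← (hcomm a).eq, ← Matrix.mul_assoc]
  · rw [hf]
    exact isNilpotent_iff_eq_zero.1
      (Matrix.isNilpotent_trace_of_isNilpotent ((hcomm a).isNilpotent_mul_right (ha.map A)))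
  · rw [hfg]
    have e : Nat.card {x : G ⧸ P // (act s * R) x = x} = P0.index := by
      refine (Nat.card_congr (Equiv.ofBijective
        (fun c : C ⧸ (P0 : Subgroup C) => (⟨Quotient.liftOn' c (fun z => QuotientGroup.mk (z : G))
          (fun a b h => by
            rw [QuotientGroup.leftRel_apply] at h
            exact QuotientGroup.eq.2 ⟨_, h, rfl⟩),
          QuotientGroup.induction_on c fun z => by
            refine (hfix s z).2 ?_
            have hz := Subgroup.mem_centralizer_singleton_iff.1 z.2
            rw [show (z : G)⁻¹ * s⁻¹ * z = s⁻¹ by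
              rw [mul_assoc, (Commute.inv_left (hz.symm : Commute s (z : G))).eq,
                inv_mul_cancel_left], mul_inv_cancel]
            exact P.one_mem⟩ : {x : G ⧸ P // (act s * R) x = x})) ⟨?_, ?_⟩)).symm
      · intro a b h
        induction a using QuotientGroup.induction_on with
        | _ a =>
        induction b using QuotientGroup.induction_on with
        | _ b =>
        obtain ⟨z, hz, e⟩ := QuotientGroup.eq.1 (congrArg Subtype.val h)
        refine QuotientGroup.eq.2 ?_
        rwa [show a⁻¹ * b = z from Subtype.ext e.symm]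
      · rintro ⟨x, hx⟩
        induction x using QuotientGroup.induction_on with
        | _ u =>
        have h := (hfix s u).1 hx
        set z := s * (u⁻¹ * s⁻¹ * u)
        have hsz : u⁻¹ * s * u = s * z⁻¹ := by
          have hc := (hPC z h).inv_right
          rw [show u⁻¹ * s * u = z⁻¹ * s by simp only [z]; group]
          exact hc.eq.symm
        have h1 : z⁻¹ = 1 := regular_mul p (hPC _ (P.inv_mem h)) hs (hPp _ (P.inv_mem h)) (by
          rw [← hsz]
          have e := orderOf_injective (MulAut.conj u⁻¹).toMonoidHom (MulEquiv.injective _) s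
          rw [show (MulAut.conj u⁻¹).toMonoidHom s = u⁻¹ * s * u by simp] at e
          rwa [e])
        have hu : u ∈ C := by
          rw [Subgroup.mem_centralizer_singleton_iff]
          rw [h1, mul_one, mul_assoc, inv_mul_eq_iff_eq_mul] at hsz
          exact hsz.symm
        exact ⟨QuotientGroup.mk ⟨u, hu⟩, rfl⟩
    rw [e, Ne, CharP.cast_eq_zero_iff k p]
    exact P0.not_dvd_index
  · rw [hfg, Nat.card_eq_zero.2 (Or.inl ⟨?_⟩), Nat.cast_zero]
    rintro ⟨x, hx⟩
    induction x using QuotientGroup.induction_on with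
    | _ u =>
    have h := (hfix t u).1 hx
    set z := s * (u⁻¹ * t⁻¹ * u)
    have hsz : u⁻¹ * t * u = s * z⁻¹ := by
      have hc := (hPC z h).inv_right
      rw [show u⁻¹ * t * u = z⁻¹ * s by simp only [z]; group]
      exact hc.eq.symm
    have h1 : z⁻¹ = 1 := regular_mul p (hPC _ (P.inv_mem h)) hs (hPp _ (P.inv_mem h)) (by
      rw [← hsz]
      have e := orderOf_injective (MulAut.conj u⁻¹).toMonoidHom (MulEquiv.injective _) t
      rw [show (MulAut.conj u⁻¹).toMonoidHom t = u⁻¹ * t * u by simp] at e
      rwa [e])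
    rw [h1, mul_one] at hsz
    exact hst (isConj_iff.2 ⟨u, by rw [← hsz]; group⟩)

/-- Brauer's count. -/
theorem card_regular_classes {r : ℕ} {d : Fin r → ℕ} [∀ i, NeZero (d i)]
    (π : MonoidAlgebra k G →ₐ[k] Π i, Matrix (Fin (d i)) (Fin (d i)) k) (hπ : Function.Surjective π)
    {m : ℕ} (hm : (LinearMap.ker π.toLinearMap) ^ m = ⊥) :
    Nat.card {c : ConjClasses G // ∃ g, ConjClasses.mk g = c ∧ (orderOf g).Coprime p} = r := by
  haveI := Fintype.ofFinite G
  let C := {c : ConjClasses G // ∃ g, ConjClasses.mk g = c ∧ (orderOf g).Coprime p}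
  haveI : Fintype C := Fintype.ofFinite C
  let T : MonoidAlgebra k G →ₗ[k] (Fin r → k) :=
    { toFun := fun a i => (π a i).trace
      map_add' := fun a b => by funext i; simp [Matrix.trace_add]
      map_smul' := fun c a => by funext i; simp [Matrix.trace_smul] }
  have hT : ∀ a i, T a i = (π a i).trace := fun a i => rfl
  have hTc : ∀ g h : G, IsConj g h → T (MonoidAlgebra.of k G g) = T (MonoidAlgebra.of k G h) := by
    intro g h hgh
    obtain ⟨x, rfl⟩ := isConj_iff.1 hgh
    funext i
    rw [hT, hT, map_mul, map_mul, map_mul, map_mul, Pi.mul_apply, Pi.mul_apply,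
      Matrix.trace_mul_comm, ← Matrix.mul_assoc, ← Pi.mul_apply, ← map_mul, ← map_mul,
      inv_mul_cancel, map_one, map_one, Pi.one_apply, Matrix.one_mul]
  let rep : C → G := fun c => c.2.choose
  have hrep : ∀ c : C, ConjClasses.mk (rep c) = c.1 ∧ (orderOf (rep c)).Coprime p :=
    fun c => c.2.choose_spec
  let v : C → (Fin r → k) := fun c => T (MonoidAlgebra.of k G (rep c))
  have hTs : Function.Surjective T := fun c => by
    obtain ⟨a, ha⟩ := hπ fun i => Matrix.single 0 0 (c i)
    exact ⟨a, funext fun i => by rw [hT, ha]; exact Matrix.trace_single_eq_same _ _⟩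
  have hspan : ⊤ ≤ Submodule.span k (Set.range v) := by
    rintro x -
    obtain ⟨a, rfl⟩ := hTs x
    induction a using MonoidAlgebra.induction_on with
    | of g =>
      obtain ⟨z, w, rfl, hc, ⟨j, hj⟩, hw, -, -⟩ := CfsgLib.Blocks.exists_pPart (Fact.out : p.Prime) g
      have hwc : (orderOf w).Coprime p := ((Fact.out : p.Prime).coprime_iff_not_dvd.2 hw).symm
      refine Submodule.subset_span ⟨⟨ConjClasses.mk w, w, rfl, hwc⟩, ?_⟩
      refine (hTc _ w (ConjClasses.mk_eq_mk_iff_isConj.1 (hrep _).1)).trans ?_
      funext i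
      rw [hT, hT, eq_comm, ← sub_eq_zero, ← Matrix.trace_sub]
      have hzj : z ^ p ^ j = 1 := by rw [← hj, pow_orderOf_eq_one]
      have hcm : Commute (MonoidAlgebra.of k G (z * w)) (MonoidAlgebra.of k G w) :=
        ((hc.mul_left (Commute.refl w)).map (MonoidAlgebra.of k G))
      have hcm' : Commute (π (MonoidAlgebra.of k G (z * w)) i) (π (MonoidAlgebra.of k G w) i) :=
        (hcm.map π).map (Pi.evalRingHom (fun i => Matrix (Fin (d i)) (Fin (d i)) k) i)
      haveI : CharP (Matrix (Fin (d i)) (Fin (d i)) k) p :=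
        charP_of_injective_algebraMap (algebraMap k _).injective p
      refine isNilpotent_iff_eq_zero.1 (Matrix.isNilpotent_trace_of_isNilpotent ⟨p ^ j, ?_⟩)
      have e : ∀ a : G, π (MonoidAlgebra.of k G a) i ^ p ^ j =
          π (MonoidAlgebra.of k G (a ^ p ^ j)) i := fun a => by rw [map_pow, map_pow]; rfl
      rw [sub_pow_char_pow_of_commute p j hcm', e, e, hc.mul_pow, hzj, one_mul, sub_self]
    | add x y hx hy => rw [map_add]; exact Submodule.add_mem _ hx hy
    | smul c x hx => rw [map_smul]; exact Submodule.smul_mem _ _ hx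
  have hli : LinearIndependent k v := by
    rw [Fintype.linearIndependent_iff]
    intro a ha c0
    obtain ⟨f, hfc, hfn, hf0, hfo⟩ := exists_class_functional (k := k) p (hrep c0).2
    obtain ⟨sec, hsec⟩ := π.toLinearMap.exists_rightInverse_of_surjective
      (LinearMap.range_eq_top.2 hπ)
    have hker : ∀ x y, π x = π y → f x = f y := by
      intro x y h
      rw [← sub_eq_zero, ← map_sub]
      refine hfn _ ⟨m, ?_⟩
      have := Submodule.pow_mem_pow _
        (show x - y ∈ LinearMap.ker π.toLinearMap by simp [h]) m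
      rw [hm] at this
      simpa using this
    have hs : ∀ x, π (sec x) = x := fun x => LinearMap.congr_fun hsec x
    obtain ⟨co, hco⟩ := trace_combination (f.comp sec) fun x y => by
      show f (sec (x * y)) = f (sec (y * x))
      rw [hker (sec (x * y)) (sec x * sec y) (by rw [hs, map_mul π, hs, hs]), hfc]
      exact hker _ _ (by rw [map_mul π, hs, hs, hs])
    have hfT : ∀ x, f x = ∑ i, co i * T x i := fun x => by
      rw [hker x (sec (π x)) (hs _).symm]
      exact hco (π x)
    have h0 : f (∑ c, a c • MonoidAlgebra.of k G (rep c)) = 0 := by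
      rw [hfT]
      have : T (∑ c, a c • MonoidAlgebra.of k G (rep c)) = 0 := by
        simp only [map_sum, map_smul]; exact ha
      simp only [this, Pi.zero_apply, mul_zero, Finset.sum_const_zero]
    rw [map_sum, Finset.sum_eq_single c0, map_smul, smul_eq_mul] at h0
    · exact (mul_eq_zero.1 h0).resolve_right hf0
    · intro c _ hne
      rw [map_smul, hfo _ (hrep c).2, smul_zero]
      intro h
      apply hne
      apply Subtype.ext
      rw [← (hrep c).1, ← (hrep c0).1]
      exact (ConjClasses.mk_eq_mk_iff_isConj.2 h).symm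
    · exact fun h => absurd (Finset.mem_univ c0) h
  have h1 := finrank_span_eq_card hli
  rw [top_le_iff.1 hspan, finrank_top, Module.finrank_fin_fun] at h1
  rw [Nat.card_eq_fintype_card]
  exact h1.symm

end CfsgLib.ModularWeights
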