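import Cfsg.Agent.Lib.ModularWeights.Hecke

/-!
# Every weight occurs

For characters `χ i` of the rank one diagonal subgroups, extended to a character of `H`, and a set
`K` of fundamental roots with trivial character, the group algebra has an element with the weight
whose Hecke eigenvalue vanishes exactly on `K` or on the nontrivial characters.
-/

set_option linter.unusedSectionVars false
set_option linter.unusedVariables false
set_option autoImplicit false

namespace CfsgLib.ModularWeights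

open CfsgLib.DefectZeroBN CfsgLib.Chev MonoidAlgebra Cfsg.Lie
open scoped Classical

variable {k : Type*} [Field k] {p : ℕ} [Fact p.Prime] [CharP k p]
variable {D : ChevalleyDatum} (Φ : Chev D)
variable {F : Type*} [Field F] [Fintype F] [CharP F p]

/-- A character of the diagonal subgroup which is trivial on the rank one subgroups of `K`. -/
structure KChar (k : Type*) [Field k] (F : Type*) [Field F] [Fintype F]
    (K : Set (Fin D.rank)) where
  θ : ↥(D.group F) → k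
  map_one : θ 1 = 1
  map_mul : ∀ a ∈ HG D F, ∀ b ∈ HG D F, θ (a * b) = θ a * θ b
  on_K : ∀ i ∈ K, ∀ a, θ (hE Φ i a) = 1

variable {Φ}
variable {K : Set (Fin D.rank)} (θ : KChar Φ k F K)

/-- The product of the lifts along a word. -/
noncomputable def wordN (Φ : Chev D) (F : Type*) [Field F] [Fintype F] (l : List (Fin D.rank)) :
    ↥(D.group F) :=
  (l.map (nE Φ F)).prod

theorem wordN_nil : wordN Φ F [] = 1 := rfl

theorem wordN_cons (i : Fin D.rank) (l : List (Fin D.rank)) :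
    wordN Φ F (i :: l) = nE Φ F i * wordN Φ F l := List.prod_cons

theorem wordN_append (a b : List (Fin D.rank)) :
    wordN Φ F (a ++ b) = wordN Φ F a * wordN Φ F b := by
  simp [wordN]

theorem wordN_mem (l : List (Fin D.rank)) :
    ((wordN Φ F l : ↥(D.group F)) : GL D.Idx F) ∈ D.monomialSubgroup F := by
  induction l with
  | nil => exact one_mem _
  | cons i l ih => rw [wordN_cons]; exact mul_mem (Φ.nw_mem_N _ _) ih

theorem wordN_mono (l : List (Fin D.rank)) :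
    Φ.Mono ((wordN Φ F l : ↥(D.group F)) : GL D.Idx F) (l.map Φ.reflPerm).prod := by
  induction l with
  | nil => exact Chev.Mono.one Φ
  | cons i l ih =>
    rw [wordN_cons, List.map_cons, List.prod_cons]
    exact Chev.Mono.mul Φ (Φ.nw_one_mono i) ih

/-- Invariance under the lifts of `K`. -/
theorem theta_conj {i : Fin D.rank} (hi : i ∈ K) {h : ↥(D.group F)} (hh : h ∈ HG D F) :
    θ.θ ((nE Φ F i)⁻¹ * h * nE Φ F i) = θ.θ h := by
  obtain ⟨c, hc⟩ := Φ.exists_torus_of_mem_H hh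
  change (h : GL D.Idx F) = Φ.toAlg.torus c at hc
  have e : (nE Φ F i)⁻¹ * h * nE Φ F i = h * hE Φ i (c i)⁻¹ := by
    apply Subtype.ext
    show (Φ.nw (Φ.p i) 1)⁻¹ * (h : GL D.Idx F) * Φ.nw (Φ.p i) 1 = (h : GL D.Idx F) * Φ.hw (Φ.p i) (c i)⁻¹
    rw [hc, mul_assoc, Φ.torus_nw_one, inv_mul_cancel_left, Φ.hw_p, ← map_mul]
    congr 1
    funext j
    simp [Chev.reflChar, Alg.cartanChar, inv_zpow]
  rw [e, θ.map_mul _ hh _ (Φ.hw_mem_H _ _), θ.on_K i hi, mul_one]

theorem theta_conj_inv {i : Fin D.rank} (hi : i ∈ K) {h : ↥(D.group F)} (hh : h ∈ HG D F) :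
    θ.θ (nE Φ F i * h * (nE Φ F i)⁻¹) = θ.θ h := by
  have h' := theta_conj θ hi (HG_conj Φ (n := nE Φ F i) (Φ.nw_mem_N _ _) hh)
  rw [show (nE Φ F i)⁻¹ * (nE Φ F i * h * (nE Φ F i)⁻¹) * nE Φ F i = h by group] at h'
  exact h'.symm

theorem theta_word_conj : ∀ {l : List (Fin D.rank)}, (∀ i ∈ l, i ∈ K) → ∀ {h : ↥(D.group F)},
    h ∈ HG D F → θ.θ (wordN Φ F l * h * (wordN Φ F l)⁻¹) = θ.θ h := by
  intro l
  induction l with
  | nil => intro _ h _; simp [wordN_nil]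
  | cons i l ih =>
    intro hl h hh
    rw [wordN_cons, show nE Φ F i * wordN Φ F l * h * (nE Φ F i * wordN Φ F l)⁻¹ =
      nE Φ F i * (wordN Φ F l * h * (wordN Φ F l)⁻¹) * (nE Φ F i)⁻¹ by group,
      theta_conj_inv θ (hl i (List.mem_cons_self ..)) (HG_conj Φ (wordN_mem l) hh),
      ih (fun j hj => hl j (List.mem_cons_of_mem _ hj)) hh]

theorem conj_nw_word (l : List (Fin D.rank)) (r : Fin D.nroots) (t : Fˣ) :
    ∃ c : Fˣ, ((wordN Φ F l : ↥(D.group F)) : GL D.Idx F) * Φ.nw r t =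
      Φ.nw ((l.map Φ.reflPerm).prod r) c * ((wordN Φ F l : ↥(D.group F)) : GL D.Idx F) := by
  induction l with
  | nil => exact ⟨t, by simp [wordN_nil]⟩
  | cons i l ih =>
    obtain ⟨c, hc⟩ := ih
    refine ⟨Φ.etaU F i ((l.map Φ.reflPerm).prod r) * c, ?_⟩
    rw [wordN_cons, Subgroup.coe_mul, mul_assoc, hc, ← mul_assoc,
      show ((nE Φ F i : ↥(D.group F)) : GL D.Idx F) = Φ.nw (Φ.p i) 1 from rfl, Φ.nw_conj_nw,
      mul_assoc]
    rfl

/-- The letter at which a positive root changes sign. -/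
theorem split_sign {y : Fin D.rank} : ∀ (a : List (Fin D.rank)),
    ¬ Φ.toTables.Pos ((a.map Φ.reflPerm).prod (Φ.p y)) →
    ∃ a1 z a2, a = a1 ++ z :: a2 ∧ (a2.map Φ.reflPerm).prod (Φ.p y) = Φ.p z := by
  intro a
  induction a with
  | nil => intro h; exact absurd (Φ.p_pos y) h
  | cons c a ih =>
    intro h
    by_cases hp : Φ.toTables.Pos ((a.map Φ.reflPerm).prod (Φ.p y))
    · refine ⟨[], c, a, rfl, ?_⟩
      by_contra hne
      rw [List.map_cons, List.prod_cons, Equiv.Perm.mul_apply] at h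
      exact h (Φ.refl_pos hp hne).1
    · obtain ⟨a1, z, a2, rfl, h2⟩ := ih hp
      exact ⟨c :: a1, z, a2, rfl, h2⟩

/-- The character is trivial on the diagonal elements made from the lifts of `K`. -/
theorem theta_word : ∀ (l : List (Fin D.rank)), (∀ i ∈ l, i ∈ K) → wordN Φ F l ∈ HG D F →
    θ.θ (wordN Φ F l) = 1 := by
  intro l
  induction h : l.length using Nat.strong_induction_on generalizing l with
  | _ m ih =>
    subst h
    intro hl hH
    rcases List.eq_nil_or_concat l with rfl | ⟨a, y, rfl⟩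
    · exact θ.map_one
    rw [List.concat_eq_append] at hl hH ⊢
    have hπ := Chev.Mono.unique Φ (wordN_mono (Φ := Φ) (F := F) (a ++ [y]))
      ((Φ.mem_H_iff_mono_one (wordN_mem _)).1 hH)
    rw [List.map_append, List.prod_append, List.map_singleton, List.prod_singleton] at hπ
    have hneg : ¬ Φ.toTables.Pos ((a.map Φ.reflPerm).prod (Φ.p y)) := by
      rw [mul_eq_one_iff_eq_inv.1 hπ, Φ.reflPerm_inv']
      show ¬ Φ.toTables.Pos (Φ.refl y (Φ.p y))
      rw [Φ.refl_p, Φ.pos_rev_iff, not_not]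
      exact Φ.p_pos y
    obtain ⟨a1, z, a2, rfl, h2⟩ := split_sign a hneg
    have hzK : z ∈ K := hl z (by simp)
    obtain ⟨c, hc⟩ := conj_nw_word (Φ := Φ) a2 (Φ.p y) (1 : Fˣ)
    rw [h2] at hc
    have hmid : nE Φ F z * wordN Φ F a2 * nE Φ F y =
        nE Φ F z * hE Φ z c * (nE Φ F z)⁻¹ * hE Φ z (-1) * wordN Φ F a2 := by
      apply Subtype.ext
      show Φ.nw (Φ.p z) 1 * ((wordN Φ F a2 : ↥(D.group F)) : GL D.Idx F) * Φ.nw (Φ.p y) 1 =
        Φ.nw (Φ.p z) 1 * Φ.hw (Φ.p z) c * (Φ.nw (Φ.p z) 1)⁻¹ * Φ.hw (Φ.p z) (-1) *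
          ((wordN Φ F a2 : ↥(D.group F)) : GL D.Idx F)
      rw [mul_assoc (Φ.nw (Φ.p z) 1), hc, Φ.nw_eq_hw_mul (Φ.p z) c, Φ.hw_p z (-1), ← Φ.nw_one_sq]
      group
    set h0 := nE Φ F z * hE Φ z c * (nE Φ F z)⁻¹ * hE Φ z (-1) with hh0
    have hcH : hE Φ z c ∈ HG D F := Φ.hw_mem_H _ _
    have h1H : hE Φ z (-1) ∈ HG D F := Φ.hw_mem_H _ _
    have h0H : h0 ∈ HG D F := mul_mem (HG_conj Φ (Φ.nw_mem_N _ _) hcH) h1H
    have hθ0 : θ.θ h0 = 1 := by
      rw [hh0, θ.map_mul _ (HG_conj Φ (Φ.nw_mem_N _ _) hcH) _ h1H, theta_conj_inv θ hzK hcH,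
        θ.on_K z hzK, θ.on_K z hzK, mul_one]
    have e : wordN Φ F (a1 ++ z :: a2 ++ [y]) =
        wordN Φ F a1 * h0 * (wordN Φ F a1)⁻¹ * wordN Φ F (a1 ++ a2) := by
      rw [wordN_append, wordN_append, wordN_cons, wordN_append, wordN_cons, wordN_nil, mul_one,
        mul_assoc (wordN Φ F a1), hmid]
      group
    rw [e] at hH ⊢
    have hcj : wordN Φ F a1 * h0 * (wordN Φ F a1)⁻¹ ∈ HG D F := HG_conj Φ (wordN_mem a1) h0H
    have hrest : wordN Φ F (a1 ++ a2) ∈ HG D F := by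
      have := (HG D F).mul_mem ((HG D F).inv_mem hcj) hH
      rwa [inv_mul_cancel_left] at this
    rw [θ.map_mul _ hcj _ hrest, theta_word_conj θ (fun i hi => hl i (by simp [hi])) h0H, hθ0,
      one_mul, ih (a1 ++ a2).length (by simp) (a1 ++ a2) rfl
        (fun i hi => hl i (by rcases List.mem_append.1 hi with h | h <;> simp [h])) hrest]

variable (Φ) in
/-- The group generated by the lifts of `K`. -/
noncomputable def MK (F : Type*) [Field F] [Fintype F] (K : Set (Fin D.rank)) :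
    Subgroup ↥(D.group F) :=
  Subgroup.closure (nE Φ F '' K)

theorem exists_word {m : ↥(D.group F)} (hm : m ∈ MK Φ F K) :
    ∃ l : List (Fin D.rank), (∀ i ∈ l, i ∈ K) ∧ m = wordN Φ F l := by
  have hm' : m ∈ Submonoid.closure (nE Φ F '' K) := by
    rw [← Subgroup.closure_toSubmonoid_of_finite]
    exact hm
  induction hm' using Submonoid.closure_induction with
  | mem x hx =>
    obtain ⟨i, hi, rfl⟩ := hx
    exact ⟨[i], by simpa using hi, by simp [wordN]⟩
  | one => exact ⟨[], by simp, rfl⟩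
  | mul x y hx' hy' hx hy =>
    obtain ⟨a, ha, rfl⟩ := hx (by
      show x ∈ (MK Φ F K).toSubmonoid
      rw [MK, Subgroup.closure_toSubmonoid_of_finite]; exact hx')
    obtain ⟨b, hb, rfl⟩ := hy (by
      show y ∈ (MK Φ F K).toSubmonoid
      rw [MK, Subgroup.closure_toSubmonoid_of_finite]; exact hy')
    exact ⟨a ++ b, fun i hi => (List.mem_append.1 hi).elim (ha i) (hb i), (wordN_append a b).symm⟩

theorem MK_mem_N {m : ↥(D.group F)} (hm : m ∈ MK Φ F K) :
    (m : GL D.Idx F) ∈ D.monomialSubgroup F := by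
  obtain ⟨l, -, rfl⟩ := exists_word hm; exact wordN_mem l

theorem theta_MK {m : ↥(D.group F)} (hm : m ∈ MK Φ F K) (hH : m ∈ HG D F) : θ.θ m = 1 := by
  obtain ⟨l, hl, rfl⟩ := exists_word hm; exact theta_word θ l hl hH

theorem theta_MK_conj {m : ↥(D.group F)} (hm : m ∈ MK Φ F K) {h : ↥(D.group F)}
    (hh : h ∈ HG D F) : θ.θ (m⁻¹ * h * m) = θ.θ h := by
  obtain ⟨l, hl, e⟩ := exists_word ((MK Φ F K).inv_mem hm)
  have := theta_word_conj θ hl hh
  rwa [← e, inv_inv] at this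

theorem exists_lift {π : Equiv.Perm (Fin D.nroots)} (hπ : π ∈ Φ.WK K) :
    ∃ m : ↥(D.group F), m ∈ MK Φ F K ∧ Φ.Mono (m : GL D.Idx F) π := by
  induction hπ using Subgroup.closure_induction with
  | mem x hx =>
    obtain ⟨i, hi, rfl⟩ := hx
    exact ⟨nE Φ F i, Subgroup.subset_closure ⟨i, hi, rfl⟩, Φ.nw_one_mono i⟩
  | one => exact ⟨1, one_mem _, Chev.Mono.one Φ⟩
  | mul x y _ _ hx hy =>
    obtain ⟨a, ha, ha'⟩ := hx
    obtain ⟨b, hb, hb'⟩ := hy
    exact ⟨a * b, mul_mem ha hb, Chev.Mono.mul Φ ha' hb'⟩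
  | inv x _ hx =>
    obtain ⟨a, ha, ha'⟩ := hx
    exact ⟨a⁻¹, inv_mem ha, Φ.mono_inv (MK_mem_N ha) ha'⟩

variable (Φ) in
/-- A chosen lift. -/
noncomputable def lift' (F : Type*) [Field F] [Fintype F] (K : Set (Fin D.rank))
    (π : Equiv.Perm (Fin D.nroots)) : ↥(D.group F) :=
  if π = 1 then 1 else if h : π ∈ Φ.WK K then (exists_lift (F := F) h).choose else 1

theorem lift'_spec {π : Equiv.Perm (Fin D.nroots)} (h : π ∈ Φ.WK K) :
    lift' Φ F K π ∈ MK Φ F K ∧ Φ.Mono ((lift' Φ F K π : ↥(D.group F)) : GL D.Idx F) π := by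
  rw [lift']
  by_cases h1 : π = 1
  · rw [if_pos h1, h1]; exact ⟨one_mem _, Chev.Mono.one Φ⟩
  · rw [if_neg h1, dif_pos h]; exact (exists_lift (F := F) h).choose_spec

/-! ### The vector -/

variable (nd : ↥(D.group F))

/-- The eigenvector in the permutation module. -/
noncomputable def eVec : MonoidAlgebra k ↥(D.group F) :=
  ∑ h ∈ Finset.univ.filter (fun h => h ∈ HG D F),
    θ.θ (nd * h⁻¹ * nd⁻¹) • (g' k h * sg k (UG D F))

/-- The regular representation. -/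
noncomputable abbrev Lrep (k : Type*) [Field k] (G : Type*) [Group G] :
    MonoidAlgebra k G →ₐ[k] Module.End k (MonoidAlgebra k G) :=
  Algebra.lmul k (MonoidAlgebra k G)

theorem ga_Lrep {G : Type*} [Group G] (g : G) (x : MonoidAlgebra k G) :
    ga (Lrep k G) g x = g' k g * x := rfl

theorem eVec_fix : UFix (Lrep k ↥(D.group F)) (eVec θ nd) := by
  intro u hu
  rw [ga_Lrep, eVec, Finset.mul_sum]
  refine Finset.sum_congr rfl fun h hh => ?_
  have hh' : h ∈ HG D F := (Finset.mem_filter.1 hh).2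
  rw [mul_smul_comm, ← mul_assoc]
  congr 1
  rw [show g' k u * g' k h = g' k h * g' k (h⁻¹ * u * h) by
    simp only [g', ← map_mul]; congr 1; group, mul_assoc, sg_mul_left (H_normalizes' Φ hh' hu)]

variable (hnd : (nd : GL D.Idx F) ∈ D.monomialSubgroup F)

include hnd in
theorem eVec_eig {h : ↥(D.group F)} (hh : h ∈ HG D F) :
    ga (Lrep k ↥(D.group F)) h (eVec θ nd) = θ.θ (nd * h * nd⁻¹) • eVec θ nd := by
  rw [ga_Lrep, eVec, Finset.mul_sum, Finset.smul_sum]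
  refine Finset.sum_equiv (Equiv.mulLeft h) (fun a => by
    simp [(HG D F).mul_mem_cancel_left hh]) fun a ha => ?_
  have ha' : a ∈ HG D F := (Finset.mem_filter.1 ha).2
  simp only [Equiv.coe_mulLeft]
  rw [mul_smul_comm, ← mul_assoc, smul_smul,
    ← θ.map_mul _ (HG_conj Φ hnd hh) _ (HG_conj Φ hnd ((HG D F).inv_mem
      ((HG D F).mul_mem hh ha')))]
  simp only [g', map_mul]
  congr 2
  have e : h * (h * a)⁻¹ = a⁻¹ := by
    have hc : h * a = a * h := Subtype.ext (Φ.H_comm hh ha')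
    rw [hc]; group
  calc nd * a⁻¹ * nd⁻¹ = nd * (h * (h * a)⁻¹) * nd⁻¹ := by rw [e]
    _ = _ := by group

variable {πd : Equiv.Perm (Fin D.nroots)} (hπd : Φ.Mono (nd : GL D.Idx F) πd)
  (hneg : ∀ r, Φ.toTables.Pos r → ¬ Φ.toTables.Pos (πd r))

/-- The weight vector in the group algebra. -/
noncomputable def xVec : MonoidAlgebra k ↥(D.group F) :=
  ∑ π ∈ Finset.univ.filter (fun π => π ∈ Φ.WK K), Tn k (lift' Φ F K π * nd) * eVec θ nd

include hnd hπd hneg in
theorem inv_neg_pos {r : Fin D.nroots} (hr : Φ.toTables.Pos r) :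
    ¬ Φ.toTables.Pos (πd⁻¹ r) := fun h => hneg _ h (by
  rw [show πd (πd⁻¹ r) = r from πd.apply_symm_apply r]; exact hr)

include hnd hπd hneg in
theorem neg_inv_pos {r : Fin D.nroots} (hr : ¬ Φ.toTables.Pos r) :
    Φ.toTables.Pos (πd⁻¹ r) := by
  have h := inv_neg_pos nd hnd hπd hneg ((Φ.pos_rev_iff r).2 hr)
  rwa [Φ.map_rev (inv_mem (Φ.mem_W_of_mono hnd hπd)), Φ.pos_rev_iff, not_not] at h

include hnd hπd hneg in
theorem xVec_ne : xVec θ nd ≠ 0 := by
  intro h0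
  have hc := congrArg (fun x : MonoidAlgebra k ↥(D.group F) => x.coeff nd) h0
  let L : MonoidAlgebra k ↥(D.group F) →ₗ[k] k :=
    { toFun := fun x => x.coeff nd
      map_add' := fun a b => by simp
      map_smul' := fun c a => by simp }
  change L (xVec θ nd) = L 0 at hc
  rw [map_zero, xVec, map_sum] at hc
  have hterm : ∀ a : ↥(D.group F), L (g' k a * sg k (UG D F)) =
      if a⁻¹ * nd ∈ UG D F then 1 else 0 := by
    intro a
    show (g' k a * sg k (UG D F)).coeff nd = _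
    rw [g', CfsgLib.Blocks.coeff_of_mul]
    simp [sg, MonoidAlgebra.of_apply, MonoidAlgebra.coeff_sum, MonoidAlgebra.coeff_single,
      Finsupp.single_apply]
  have hsum : ∀ m : ↥(D.group F), L (Tn k m * eVec θ nd) = ∑ y ∈ orb m,
      ∑ h ∈ Finset.univ.filter (fun h => h ∈ HG D F),
        θ.θ (nd * h⁻¹ * nd⁻¹) * (if (y.out * h)⁻¹ * nd ∈ UG D F then 1 else 0) := by
    intro m
    rw [Tn, eVec, Finset.sum_mul, map_sum]
    refine Finset.sum_congr rfl fun y _ => ?_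
    rw [Finset.mul_sum, map_sum]
    refine Finset.sum_congr rfl fun h _ => ?_
    rw [mul_smul_comm, ← mul_assoc, map_smul, smul_eq_mul, g', g', ← map_mul]
    rw [hterm]
  -- the only contribution
  have huniq : ∀ (π : Equiv.Perm (Fin D.nroots)), π ∈ Φ.WK K → ∀ y ∈ orb (lift' Φ F K π * nd),
      ∀ h ∈ HG D F, (y.out * h)⁻¹ * nd ∈ UG D F →
        π = 1 ∧ y = QuotientGroup.mk nd ∧ h = 1 := by
    intro π hπ y hy h hh hu
    obtain ⟨hmK, hmπ⟩ := lift'_spec (F := F) hπ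
    set m := lift' Φ F K π with hm
    obtain ⟨u1, hu1, u2, hu2, e⟩ := out_mem_orb hy
    set u := (y.out * h)⁻¹ * nd with hudef
    have e2 : nd = u1 * (m * nd) * (u2 * h * u) := by
      rw [hudef, e]; group
    have hmN : ((m * nd : ↥(D.group F)) : GL D.Idx F) ∈ D.monomialSubgroup F :=
      mul_mem (MK_mem_N hmK) hnd
    have hbB : ((u2 * h * u : ↥(D.group F)) : GL D.Idx F) ∈ D.borelSubgroup F :=
      mul_mem (mul_mem (Chev.U_le_B hu2) (Chev.H_le_B hh)) (Chev.U_le_B hu)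
    have hx := Φ.bnb_unique (b := (u1 : GL D.Idx F)) (c := ((u2 * h * u : ↥(D.group F)) : GL D.Idx F))
      (n := ((m * nd : ↥(D.group F)) : GL D.Idx F)) (b' := 1) (n' := (nd : GL D.Idx F)) (c' := 1)
      (Chev.U_le_B hu1) (one_mem _) hbB (one_mem _) hmN hnd (by
        rw [one_mul, mul_one]
        exact (congrArg Subtype.val e2).symm)
    have hπ1 : π = 1 := by
      have := Φ.same_perm hx (Chev.Mono.mul Φ hmπ hπd) hπd
      rwa [mul_eq_right] at this
    subst hπ1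
    have hm1 : m = 1 := by rw [hm, lift', if_pos rfl]
    rw [hm1, one_mul] at e e2
    have hV : ((nd : GL D.Idx F)⁻¹ * u1 * nd) ∈ D.borelSubgroup F ⊓ D.negUnipotent F := by
      constructor
      · have e3 : nd⁻¹ * u1 * nd = (u2 * h * u)⁻¹ := by
          refine eq_inv_of_mul_eq_one_left ?_
          calc nd⁻¹ * u1 * nd * (u2 * h * u) = nd⁻¹ * (u1 * nd * (u2 * h * u)) := by group
            _ = 1 := by rw [← e2, inv_mul_cancel]
        have := congrArg (fun g : ↥(D.group F) => (g : GL D.Idx F)) e3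
        simp only [Subgroup.coe_mul, Subgroup.coe_inv] at this
        rw [this]
        exact (D.borelSubgroup F).inv_mem hbB
      · have hu1' : (u1 : GL D.Idx F) ∈ Φ.US F Φ.toTables.Pos := by
          rw [← Φ.posUnipotent_eq_US]; exact hu1
        rw [Φ.negUnipotent_eq_US]
        have := Φ.map_US_le (Φ.mono_inv hnd hπd) (T := fun r => ¬ Φ.toTables.Pos r)
          (fun r hr => inv_neg_pos nd hnd hπd hneg hr) _ hu1'
        simpa using this
    rw [Φ.B_inf_V, Subgroup.mem_bot] at hV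
    have hu11 : u1 = 1 := by
      apply Subtype.ext
      show (u1 : GL D.Idx F) = 1
      calc (u1 : GL D.Idx F) = nd * ((nd : GL D.Idx F)⁻¹ * u1 * nd) * (nd : GL D.Idx F)⁻¹ := by group
        _ = 1 := by rw [hV]; group
    subst hu11
    rw [one_mul] at e e2
    have h2 : u2 * h * u = 1 := mul_eq_left.1 e2.symm
    have hhU : h ∈ UG D F := by
      rw [show h = u2⁻¹ * (u2 * h * u) * u⁻¹ by group, h2, mul_one]
      exact (UG D F).mul_mem ((UG D F).inv_mem hu2) ((UG D F).inv_mem hu)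
    have hh1 : h = 1 :=
      Subtype.ext (Φ.eq_one_of_mem_U_of_mem_N hhU (Chev.H_le_N hh))
    refine ⟨rfl, ?_, hh1⟩
    rw [← QuotientGroup.out_eq' y, e]
    refine QuotientGroup.eq.2 ?_
    rw [mul_inv_rev, mul_assoc, inv_mul_cancel, mul_one]
    exact (UG D F).inv_mem hu2
  have hmem1 : (1 : Equiv.Perm (Fin D.nroots)) ∈ Φ.WK K := one_mem _
  rw [Finset.sum_eq_single (1 : Equiv.Perm (Fin D.nroots)), hsum,
    Finset.sum_eq_single (QuotientGroup.mk nd : _ ⧸ UG D F),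
    Finset.sum_eq_single (1 : ↥(D.group F))] at hc
  · rw [inv_one, mul_one, mul_inv_cancel, θ.map_one, one_mul, mul_one, if_pos] at hc
    · exact one_ne_zero hc
    · exact QuotientGroup.eq.1 (QuotientGroup.out_eq' _)
  · intro h hh hne
    rw [if_neg, mul_zero]
    exact fun hu => hne (huniq 1 hmem1 _ (mem_orb.2 ⟨1, one_mem _, by
      rw [one_mul, lift', if_pos rfl, one_mul]⟩) h (Finset.mem_filter.1 hh).2 hu).2.2
  · intro h; exact absurd (Finset.mem_filter.2 ⟨Finset.mem_univ _, one_mem _⟩) h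
  · intro y hy hne
    refine Finset.sum_eq_zero fun h hh => ?_
    rw [if_neg, mul_zero]
    exact fun hu => hne (huniq 1 hmem1 y hy h (Finset.mem_filter.1 hh).2 hu).2.1
  · intro h
    exact absurd (mem_orb.2 ⟨1, one_mem _, by rw [one_mul, lift', if_pos rfl, one_mul]⟩) h
  · intro π hπ hne
    rw [hsum]
    refine Finset.sum_eq_zero fun y hy => Finset.sum_eq_zero fun h hh => ?_
    rw [if_neg, mul_zero]
    exact fun hu => hne (huniq π (Finset.mem_filter.1 hπ).2 y hy h (Finset.mem_filter.1 hh).2 hu).1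
  · intro h; exact absurd (Finset.mem_filter.2 ⟨Finset.mem_univ _, hmem1⟩) h

include hnd in
theorem term_H {π : Equiv.Perm (Fin D.nroots)} (hπ : π ∈ Φ.WK K) {h : ↥(D.group F)}
    (hh : h ∈ HG D F) :
    g' k h * (Tn k (lift' Φ F K π * nd) * eVec θ nd) =
      θ.θ h • (Tn k (lift' Φ F K π * nd) * eVec θ nd) := by
  obtain ⟨hmK, -⟩ := lift'_spec (F := F) hπ
  set m := lift' Φ F K π
  have hN : ((m * nd : ↥(D.group F)) : GL D.Idx F) ∈ D.monomialSubgroup F :=
    mul_mem (MK_mem_N hmK) hnd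
  have h1 := Tn_H Φ (eVec_fix θ nd) (A := Lrep k _) hN hh
  rw [eVec_eig θ nd hnd (HG_conj' Φ hN hh), map_smul,
    show nd * ((m * nd)⁻¹ * h * (m * nd)) * nd⁻¹ = m⁻¹ * h * m by group,
    theta_MK_conj θ hmK hh] at h1
  exact h1

include hnd in
theorem csum_val (s : Fin D.rank) {π : Equiv.Perm (Fin D.nroots)} (hπ : π ∈ Φ.WK K) :
    csum Φ (fun h => θ.θ (nd * h * nd⁻¹)) ((nE Φ F s)⁻¹ * (lift' Φ F K π * nd)) s =
      ∑ a : Fˣ, θ.θ (hE Φ s a) := by
  obtain ⟨hmK, -⟩ := lift'_spec (F := F) hπ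
  rw [csum]
  refine Fintype.sum_equiv (Equiv.inv Fˣ) _ _ fun a => ?_
  set m := lift' Φ F K π
  have e : nE Φ F s * hE Φ s a = hE Φ s a⁻¹ * nE Φ F s := (Φ.rankOneIn F (Φ.p s)).n_h a
  show θ.θ (nd * (((nE Φ F s)⁻¹ * (m * nd))⁻¹ * hE Φ s a * ((nE Φ F s)⁻¹ * (m * nd))) * nd⁻¹) =
    θ.θ (hE Φ s a⁻¹)
  rw [show nd * (((nE Φ F s)⁻¹ * (m * nd))⁻¹ * hE Φ s a * ((nE Φ F s)⁻¹ * (m * nd))) * nd⁻¹ =
      m⁻¹ * (nE Φ F s * hE Φ s a * (nE Φ F s)⁻¹) * m by group, e, mul_inv_cancel_right,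
    theta_MK_conj θ hmK (Φ.hw_mem_H _ _)]

include hnd hπd hneg in
/-- The weight of the vector. -/
theorem xVec_wt :
    IsWt (Φ.defectDatum F p) (Lrep k ↥(D.group F)) (fun i a => θ.θ (hE Φ i a))
      (fun i => if i ∈ K then 0 else ∑ a : Fˣ, θ.θ (hE Φ i a)) (xVec θ nd) := by
  refine ⟨⟨fun u hu => ?_, fun i a => ?_⟩, fun (s : Fin D.rank) => ?_⟩
  · show g' k u * xVec θ nd = xVec θ nd
    rw [xVec, Finset.mul_sum]
    exact Finset.sum_congr rfl fun π _ => Tn_fix (eVec_fix θ nd) _ u hu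
  · show g' k (hE Φ i a) * xVec θ nd = _
    rw [xVec, Finset.mul_sum, Finset.smul_sum]
    exact Finset.sum_congr rfl fun π hπ =>
      term_H θ nd hnd (Finset.mem_filter.1 hπ).2 (Φ.hw_mem_H _ _)
  show op (Φ.defectDatum F p) k s * xVec θ nd = _
  set f : Equiv.Perm (Fin D.nroots) → MonoidAlgebra k ↥(D.group F) :=
    fun π => Tn k (lift' Φ F K π * nd) * eVec θ nd with hf
  have hπdW : πd ∈ Φ.WL := Φ.mem_W_of_mono hnd hπd
  have hdown : ∀ π ∈ Φ.WK K, Φ.toTables.Pos (π⁻¹ (Φ.p s)) →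
      op (Φ.defectDatum F p) k s * f π = (∑ a : Fˣ, θ.θ (hE Φ s a)) • f π := by
    intro π hπ hp
    obtain ⟨hmK, hmπ⟩ := lift'_spec (F := F) hπ
    have hneg' : ¬ Φ.toTables.Pos ((π * πd)⁻¹ (Φ.p s)) := by
      rw [_root_.mul_inv_rev, Equiv.Perm.mul_apply]
      exact inv_neg_pos nd hnd hπd hneg hp
    have h := op_Tn_down (p := p) Φ (eVec_fix θ nd) (A := Lrep k _)
      (θ := fun h => θ.θ (nd * h * nd⁻¹)) (fun h hh => eVec_eig θ nd hnd hh) s
      (n := lift' Φ F K π * nd) (mul_mem (MK_mem_N hmK) hnd) (Chev.Mono.mul Φ hmπ hπd) hneg'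
    rw [csum_val θ nd hnd s hπ] at h
    exact h
  by_cases hs : s ∈ K
  swap
  · show _ = (if s ∈ K then (0 : k) else _) • _
    rw [if_neg hs]
    show op (Φ.defectDatum F p) k s * (∑ π ∈ _, f π) = _ • (∑ π ∈ _, f π)
    rw [Finset.mul_sum, Finset.smul_sum]
    refine Finset.sum_congr rfl fun π hπ => ?_
    have hπK : π⁻¹ ∈ Φ.WK K := inv_mem (Finset.mem_filter.1 hπ).2
    refine hdown π (Finset.mem_filter.1 hπ).2 ?_
    have hV := Φ.map_p_of_mem_WK hπK (Φ.p s) hs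
    rw [Φ.V_p, if_pos rfl] at hV
    by_contra hn
    have := Φ.V_nonpos _ hn s
    omega
  show _ = (if s ∈ K then (0 : k) else _) • _
  rw [if_pos hs, zero_smul]
  show op (Φ.defectDatum F p) k s * (∑ π ∈ _, f π) = 0
  set W := Finset.univ.filter (fun π => π ∈ Φ.WK K) with hW
  rw [Finset.mul_sum, ← Finset.sum_filter_add_sum_filter_not W
    (fun π => Φ.toTables.Pos (π⁻¹ (Φ.p s)))]
  have hc : (∑ a : Fˣ, θ.θ (hE Φ s a)) = -1 := by
    simp only [θ.on_K s hs, Finset.sum_const, Finset.card_univ, nsmul_eq_mul, mul_one]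
    rw [Fintype.card_units, Nat.cast_sub Fintype.card_pos, card_eq_zero' k F p, Nat.cast_one,
      zero_sub]
  have hsW : Φ.reflPerm s ∈ Φ.WK K := Φ.reflPerm_mem_WK hs
  have hflip : ∀ π, π ∈ Φ.WK K → (Φ.toTables.Pos ((Φ.reflPerm s * π)⁻¹ (Φ.p s)) ↔
      ¬ Φ.toTables.Pos (π⁻¹ (Φ.p s))) := by
    intro π hπ
    rw [_root_.mul_inv_rev, Φ.reflPerm_inv', Equiv.Perm.mul_apply,
      show Φ.reflPerm s (Φ.p s) = (Φ.p s).rev from Φ.refl_p s,
      Φ.map_rev (inv_mem (Φ.WK_le_WL K hπ)), Φ.pos_rev_iff]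
  have hup : ∀ π ∈ Φ.WK K, ¬ Φ.toTables.Pos (π⁻¹ (Φ.p s)) →
      op (Φ.defectDatum F p) k s * f π = f (Φ.reflPerm s * π) := by
    intro π hπ hp
    obtain ⟨hmK, hmπ⟩ := lift'_spec (F := F) hπ
    have hpos' : Φ.toTables.Pos ((π * πd)⁻¹ (Φ.p s)) := by
      rw [_root_.mul_inv_rev, Equiv.Perm.mul_apply]
      exact neg_inv_pos nd hnd hπd hneg hp
    have h := op_Tn (p := p) Φ (eVec_fix θ nd) (A := Lrep k _) s (n := lift' Φ F K π * nd)
      (mul_mem (MK_mem_N hmK) hnd) (Chev.Mono.mul Φ hmπ hπd) hpos'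
    change op (Φ.defectDatum F p) k s * (Tn k (lift' Φ F K π * nd) * eVec θ nd) =
      Tn k (nE Φ F s * (lift' Φ F K π * nd)) * eVec θ nd at h
    rw [hf, h]
    have hπ' : Φ.reflPerm s * π ∈ Φ.WK K := mul_mem hsW hπ
    obtain ⟨hmK', hmπ'⟩ := lift'_spec (F := F) hπ'
    set m := lift' Φ F K π
    set m' := lift' Φ F K (Φ.reflPerm s * π)
    have hsm : nE Φ F s * m ∈ MK Φ F K :=
      mul_mem (Subgroup.subset_closure ⟨s, hs, rfl⟩) hmK
    set h0 := m'⁻¹ * (nE Φ F s * m) with hh0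
    have hh0K : h0 ∈ MK Φ F K := mul_mem (inv_mem hmK') hsm
    have hh0H : h0 ∈ HG D F :=
      Φ.inv_mul_mem_H (MK_mem_N hmK') (MK_mem_N hsm) hmπ'
        (Chev.Mono.mul Φ (Φ.nw_one_mono s) hmπ)
    rw [show nE Φ F s * (m * nd) = (m' * nd) * (nd⁻¹ * h0 * nd) by rw [hh0]; group]
    have h2 := Tn_mul_H Φ (eVec_fix θ nd) (A := Lrep k _) (n := m' * nd) (HG_conj' Φ hnd hh0H)
    rw [eVec_eig θ nd hnd (HG_conj' Φ hnd hh0H),
      show nd * (nd⁻¹ * h0 * nd) * nd⁻¹ = h0 by group, theta_MK θ hh0K hh0H, one_smul] at h2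
    exact h2
  have e1 : ∑ π ∈ W.filter (fun π => Φ.toTables.Pos (π⁻¹ (Φ.p s))),
      op (Φ.defectDatum F p) k s * f π =
      -∑ π ∈ W.filter (fun π => Φ.toTables.Pos (π⁻¹ (Φ.p s))), f π := by
    rw [← Finset.sum_neg_distrib]
    refine Finset.sum_congr rfl fun π hπ => ?_
    obtain ⟨h1, h2⟩ := Finset.mem_filter.1 hπ
    rw [hdown π (Finset.mem_filter.1 h1).2 h2, hc, neg_one_smul]
  have e2 : ∑ π ∈ W.filter (fun π => ¬ Φ.toTables.Pos (π⁻¹ (Φ.p s))),
      op (Φ.defectDatum F p) k s * f π =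
      ∑ π ∈ W.filter (fun π => Φ.toTables.Pos (π⁻¹ (Φ.p s))), f π := by
    refine Finset.sum_bij' (fun π _ => Φ.reflPerm s * π) (fun π _ => Φ.reflPerm s * π) ?_ ?_
      (fun π _ => by rw [← mul_assoc, Φ.reflPerm_mul_self', one_mul])
      (fun π _ => by rw [← mul_assoc, Φ.reflPerm_mul_self', one_mul]) ?_
    · intro π hπ
      obtain ⟨h1, h2⟩ := Finset.mem_filter.1 hπ
      have h1' := (Finset.mem_filter.1 h1).2
      exact Finset.mem_filter.2 ⟨Finset.mem_filter.2 ⟨Finset.mem_univ _, mul_mem hsW h1'⟩,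
        (hflip π h1').2 h2⟩
    · intro π hπ
      obtain ⟨h1, h2⟩ := Finset.mem_filter.1 hπ
      have h1' := (Finset.mem_filter.1 h1).2
      exact Finset.mem_filter.2 ⟨Finset.mem_filter.2 ⟨Finset.mem_univ _, mul_mem hsW h1'⟩,
        fun hn => (hflip π h1').1 hn h2⟩
    · intro π hπ
      obtain ⟨h1, h2⟩ := Finset.mem_filter.1 hπ
      exact hup π (Finset.mem_filter.1 h1).2 h2
  rw [e1, e2, neg_add_cancel]

end CfsgLib.ModularWeights
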