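import Cfsg.Agent.Lib.ModularWeights.Brauer
import Cfsg.Agent.Lib.ModularWeights.Exists
import Mathlib.FieldTheory.IsAlgClosed.AlgebraicClosure
import Mathlib.GroupTheory.FiniteAbelian.Duality
import Mathlib.RingTheory.RootsOfUnity.AlgebraicallyClosed

/-!
# The number of semisimple classes

When the diagonal subgroup has order `(q-1)^l` there are `q^l` weights, hence `q^l` classes of
elements of order prime to `p`.
-/

set_option linter.unusedSectionVars false
set_option linter.unusedVariables false
set_option autoImplicit false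

namespace CfsgLib.ModularWeights

open CfsgLib.DefectZeroBN CfsgLib.Chev MonoidAlgebra Cfsg.Lie Matrix
open scoped Classical

variable {k : Type*} [Field k] {p : ℕ} [Fact p.Prime] [CharP k p]

/-- The weights in one coordinate. -/
abbrev Wt1 (k : Type*) [Field k] (F : Type*) [Field F] :=
  {cb : (Fˣ →* kˣ) × Bool // cb.1 ≠ 1 → cb.2 = false}

/-- The eigenvalue of a weight. -/
noncomputable def muVal (k : Type*) [Field k] (b : Bool) : k := if b then -1 else 0

theorem muVal_inj {b b' : Bool} (h : muVal k b = muVal k b') : b = b' := by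
  cases b <;> cases b' <;> simp_all [muVal]

theorem card_Wt1 [IsAlgClosed k] (F : Type*) [Field F] [Fintype F] [CharP F p] :
    Nat.card (Wt1 k F) = Fintype.card F := by
  haveI hn : NeZero ((Monoid.exponent Fˣ : ℕ) : k) := ⟨by
    rw [IsCyclic.exponent_eq_card, Nat.card_eq_fintype_card, Fintype.card_units,
      Nat.cast_sub Fintype.card_pos, card_eq_zero' k F p, Nat.cast_one, zero_sub]
    exact neg_ne_zero.2 one_ne_zero⟩
  have hcard : Nat.card (Fˣ →* kˣ) = Nat.card Fˣ :=
    CommGroup.card_monoidHom_of_hasEnoughRootsOfUnity Fˣ k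
  haveI : Finite (Fˣ →* kˣ) := Nat.finite_of_card_ne_zero (by rw [hcard]; exact Nat.card_pos.ne')
  let e : Wt1 k F ≃ Option (Fˣ →* kˣ) :=
    { toFun := fun x => if x.1.2 then none else some x.1.1
      invFun := fun o => o.elim ⟨(1, true), fun h => absurd rfl h⟩
        fun χ => ⟨(χ, false), fun _ => rfl⟩
      left_inv := by
        rintro ⟨⟨χ, b⟩, hb⟩
        cases b
        · rfl
        · have : χ = 1 := by
            by_contra hne
            exact absurd (hb hne) (by simp)
          subst this
          rfl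
      right_inv := by rintro (_ | χ) <;> rfl }
  rw [Nat.card_congr e, Finite.card_option, hcard, Nat.card_eq_fintype_card, Fintype.card_units,
    Nat.sub_add_cancel Fintype.card_pos]

theorem sum_char {F : Type*} [Field F] [Fintype F] [CharP F p] (χ : Fˣ →* kˣ) :
    ∑ a : Fˣ, (χ a : k) = if χ = 1 then -1 else 0 := by
  split_ifs with h
  · subst h
    simp only [MonoidHom.one_apply, Units.val_one, Finset.sum_const, Finset.card_univ, nsmul_eq_mul,
      mul_one]
    rw [Fintype.card_units, Nat.cast_sub Fintype.card_pos, card_eq_zero' k F p, Nat.cast_one,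
      zero_sub]
  · exact sum_hom_units_eq_zero ((Units.coeHom k).comp χ) (fun h' => h (MonoidHom.ext fun a =>
      Units.ext (by
        have := DFunLike.congr_fun h' a
        simpa using this)))

/-- A surjective representation is simple. -/
theorem simple_of_surjective {G : Type*} [Group G] {M : Type*} [AddCommGroup M] [Module k M]
    {A : MonoidAlgebra k G →ₐ[k] Module.End k M} (hA : Function.Surjective A) : IsSimpleRep A := by
  intro W hW
  by_cases h : W = ⊥
  · exact Or.inl h
  refine Or.inr ?_
  obtain ⟨w, hw, hw0⟩ := Submodule.exists_mem_ne_zero_of_ne_bot h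
  rw [eq_top_iff]
  intro u _
  obtain ⟨f, hf⟩ : ∃ f : Module.Dual k M, f w ≠ 0 := by
    by_contra! h'
    exact hw0 ((Module.forall_dual_apply_eq_zero_iff k w).1 h')
  obtain ⟨a, ha⟩ := hA (((f w)⁻¹ • f).smulRight u)
  have := hW a w hw
  rwa [ha, LinearMap.smulRight_apply, LinearMap.smul_apply, smul_eq_mul, inv_mul_cancel₀ hf,
    one_smul] at this

section Transfer

variable {G : Type*} [Group G] {r : ℕ} {d : Fin r → ℕ}
variable (π : MonoidAlgebra k G →ₐ[k] Π i, Matrix (Fin (d i)) (Fin (d i)) k)

/-- The representation on one factor. -/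
noncomputable def facRep (j : Fin r) :
    MonoidAlgebra k G →ₐ[k] Module.End k (Fin (d j) → k) :=
  (Matrix.toLinAlgEquiv' : Matrix (Fin (d j)) (Fin (d j)) k ≃ₐ[k] _).toAlgHom.comp
    ((Pi.evalAlgHom k _ j).comp π)

theorem facRep_apply (j : Fin r) (a : MonoidAlgebra k G) (w : Fin (d j) → k) :
    facRep π j a w = π a j *ᵥ w := rfl

theorem facRep_surjective (hπ : Function.Surjective π) (j : Fin r) :
    Function.Surjective (facRep π j) := by
  intro f
  obtain ⟨M, hM⟩ :=
    (Matrix.toLinAlgEquiv' : Matrix (Fin (d j)) (Fin (d j)) k ≃ₐ[k] _).surjective f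
  obtain ⟨a, ha⟩ := hπ (Pi.single j M)
  refine ⟨a, ?_⟩
  show Matrix.toLinAlgEquiv' (π a j) = f
  rw [ha, Pi.single_eq_same, hM]

/-- Some factor sees a nonzero element, keeping the relations satisfied by it. -/
theorem exists_transfer (hπ : Function.Surjective π) {m : ℕ}
    (hm : (LinearMap.ker π.toLinearMap) ^ m = ⊥) {x : MonoidAlgebra k G} (hx : x ≠ 0) :
    ∃ j, ∃ w : Fin (d j) → k, w ≠ 0 ∧ ∀ a, a * x = 0 → facRep π j a w = 0 := by
  by_contra! hcon
  set J : Submodule k (Π i, Matrix (Fin (d i)) (Fin (d i)) k) :=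
    (LinearMap.ker (LinearMap.mulRight k x)).map π.toLinearMap with hJ
  have hJmem : ∀ y, y ∈ J ↔ ∃ a, a * x = 0 ∧ π a = y := fun y => by
    simp [hJ]
  have hleft : ∀ y, ∀ z ∈ J, y * z ∈ J := by
    intro y z hz
    obtain ⟨a, ha, rfl⟩ := (hJmem z).1 hz
    obtain ⟨b, rfl⟩ := hπ y
    exact (hJmem _).2 ⟨b * a, by rw [mul_assoc, ha, mul_zero], map_mul π b a⟩
  have hone : (1 : Π i, Matrix (Fin (d i)) (Fin (d i)) k) ∈ J := by
    have hrows : ∀ j (l : Fin (d j)) (v : Fin (d j) → k),
        (Pi.single j (Matrix.updateRow 0 l v) : Π i, Matrix (Fin (d i)) (Fin (d i)) k) ∈ J := by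
      intro j l
      let S : Submodule k (Fin (d j) → k) :=
        { carrier := {v | (Pi.single j (Matrix.updateRow 0 l v) :
            Π i, Matrix (Fin (d i)) (Fin (d i)) k) ∈ J}
          add_mem' := fun {v w} hv hw => by
            have e : Matrix.updateRow (0 : Matrix (Fin (d j)) (Fin (d j)) k) l (v + w) =
                Matrix.updateRow 0 l v + Matrix.updateRow 0 l w := by
              ext a b; by_cases h : a = l <;> simp [Matrix.updateRow_apply, h]
            simp only [Set.mem_setOf_eq] at hv hw ⊢
            rw [e, Pi.single_add]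
            exact J.add_mem hv hw
          zero_mem' := by
            have e : Matrix.updateRow (0 : Matrix (Fin (d j)) (Fin (d j)) k) l 0 = 0 := by
              ext a b; by_cases h : a = l <;> simp [Matrix.updateRow_apply, h]
            simp only [Set.mem_setOf_eq]
            rw [e, Pi.single_zero]
            exact J.zero_mem
          smul_mem' := fun c v hv => by
            have e : Matrix.updateRow (0 : Matrix (Fin (d j)) (Fin (d j)) k) l (c • v) =
                c • Matrix.updateRow 0 l v := by
              ext a b; by_cases h : a = l <;> simp [Matrix.updateRow_apply, h]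
            simp only [Set.mem_setOf_eq] at hv ⊢
            rw [e, Pi.single_smul]
            exact J.smul_mem c hv }
      have hS : S = ⊤ := by
        by_contra hne
        obtain ⟨f, hf0, hf⟩ :=
          Submodule.exists_dual_map_eq_bot_of_lt_top (lt_top_iff_ne_top.2 hne) inferInstance
        let w : Fin (d j) → k := fun c => f (Pi.single c 1)
        have hfw : ∀ v, f v = v ⬝ᵥ w := fun v => by
          conv_lhs => rw [← Finset.univ_sum_single v]
          rw [map_sum]
          refine Finset.sum_congr rfl fun c _ => ?_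
          rw [show (Pi.single c (v c) : Fin (d j) → k) = v c • Pi.single c 1 by
            rw [← Pi.single_smul, smul_eq_mul, mul_one], map_smul, smul_eq_mul]
        have hw0 : w ≠ 0 := fun h => hf0 (LinearMap.ext fun v => by rw [hfw, h]; simp)
        obtain ⟨a, ha, hne'⟩ := hcon j w hw0
        apply hne'
        funext c
        show (π a j *ᵥ w) c = 0
        rw [Matrix.mulVec, ← hfw]
        have hc : (π a j c) ∈ S := by
          show (Pi.single j (Matrix.updateRow 0 l (π a j c)) :
            Π i, Matrix (Fin (d i)) (Fin (d i)) k) ∈ J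
          have h := hleft (Pi.single j (Matrix.single l c 1)) _ ((hJmem _).2 ⟨a, ha, rfl⟩)
          convert h using 1
          funext i
          by_cases hi : i = j
          · subst hi
            rw [Pi.mul_apply, Pi.single_eq_same, Pi.single_eq_same]
            ext s t
            by_cases hs : s = l
            · subst hs; simp [Matrix.mul_apply, Matrix.single_apply, Matrix.updateRow_apply]
            · simp [Matrix.mul_apply, Matrix.single_apply, Matrix.updateRow_apply, hs, Ne.symm hs]
          · rw [Pi.mul_apply, Pi.single_eq_of_ne hi, Pi.single_eq_of_ne hi, zero_mul]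
        have := Submodule.mem_map_of_mem (f := f) hc
        rw [hf, Submodule.mem_bot] at this
        exact this
      intro v
      show v ∈ S
      rw [hS]; exact Submodule.mem_top
    have e : (1 : Π i, Matrix (Fin (d i)) (Fin (d i)) k) =
        ∑ j, ∑ l, Pi.single j (Matrix.updateRow 0 l (Pi.single l 1)) := by
      funext i
      rw [Finset.sum_apply, Finset.sum_eq_single i (fun b _ hb => by
        rw [Finset.sum_apply]
        exact Finset.sum_eq_zero fun l _ => Pi.single_eq_of_ne (Ne.symm hb) _)
        (fun h => absurd (Finset.mem_univ i) h), Finset.sum_apply]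
      simp only [Pi.single_eq_same, Pi.one_apply]
      ext a b
      rw [Matrix.sum_apply, Finset.sum_eq_single a (fun l _ hl => by
        simp [Matrix.updateRow_apply, Ne.symm hl]) (fun h => absurd (Finset.mem_univ a) h)]
      simp [Matrix.updateRow_apply, Matrix.one_apply, Pi.single_apply, eq_comm]
    rw [e]
    exact Submodule.sum_mem _ fun j _ => Submodule.sum_mem _ fun l _ => hrows j l _
  obtain ⟨a, ha, ha1⟩ := (hJmem 1).1 hone
  have hl : (1 - a) ∈ LinearMap.ker π.toLinearMap := by simp [ha1]
  have h0 := Submodule.pow_mem_pow _ hl m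
  rw [hm, Submodule.mem_bot] at h0
  have hfix : ∀ n : ℕ, (1 - a) ^ n * x = x := by
    intro n
    induction n with
    | zero => rw [pow_zero, one_mul]
    | succ n ih => rw [pow_succ, mul_assoc, sub_mul, one_mul, ha, sub_zero, ih]
  exact hx (by rw [← hfix m, h0, zero_mul])

end Transfer

variable {D : ChevalleyDatum} (Φ : Chev D) {F : Type*} [Field F] [Fintype F]

include Φ in
/-- Characters of the diagonal subgroup with given values on the rank one subgroups. -/
theorem exists_theta (hH : Nat.card (D.diagonalSubgroup F) = (Fintype.card F - 1) ^ D.rank)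
    (χ : Fin D.rank → Fˣ →* kˣ) (K : Set (Fin D.rank)) (hK : ∀ i ∈ K, χ i = 1) :
    ∃ θ : KChar Φ k F K, ∀ i a, θ.θ (hE Φ i a) = (χ i a : k) := by
  set ψ := (Φ.toAlg.torus (R := F)).comp (Φ.coHom F) with hψ
  have hinj : Function.Injective ψ := by
    have hb : Function.Bijective ψ.rangeRestrict :=
      (Nat.bijective_iff_surjective_and_card ψ.rangeRestrict).2 ⟨ψ.rangeRestrict_surjective, by
        rw [hψ, ← Φ.diagonalSubgroup_eq, hH, Nat.card_fun, Nat.card_units, Nat.card_fin,
          Nat.card_eq_fintype_card]⟩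
    exact fun a b h => hb.1 (Subtype.ext h)
  let θ0 : (Fin D.rank → Fˣ) →* kˣ :=
    { toFun := fun c => ∏ i, χ i (c i)
      map_one' := by simp
      map_mul' := fun a b => by simp [Finset.prod_mul_distrib] }
  let θf : ↥(D.group F) → k := fun h =>
    if hh : (h : GL D.Idx F) ∈ ψ.range then (θ0 hh.choose : k) else 0
  have hval : ∀ (h : ↥(D.group F)) c, (h : GL D.Idx F) = ψ c → θf h = (θ0 c : k) := by
    intro h c hc
    have hh : (h : GL D.Idx F) ∈ ψ.range := ⟨c, hc.symm⟩
    simp only [θf, dif_pos hh]
    rw [hinj (hh.choose_spec.trans hc)]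
  have hpre : ∀ h ∈ HG D F, ∃ c, ((h : ↥(D.group F)) : GL D.Idx F) = ψ c := by
    intro h hh
    have : (h : GL D.Idx F) ∈ ψ.range := by rw [hψ, ← Φ.diagonalSubgroup_eq]; exact hh
    obtain ⟨c, hc⟩ := this
    exact ⟨c, hc.symm⟩
  have hE' : ∀ i a, θf (hE Φ i a) = (χ i a : k) := by
    intro i a
    rw [hval _ (Pi.mulSingle i a) (by
      show Φ.hw (Φ.p i) a = _
      rw [hψ, MonoidHom.comp_apply, Φ.coHom_apply, Φ.hw_p,
        Finset.prod_eq_single i (fun j _ hj => by
          rw [Pi.mulSingle_eq_of_ne hj]; funext l; simp [Alg.cartanChar])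
          (fun h => absurd (Finset.mem_univ i) h), Pi.mulSingle_eq_same])]
    congr 1
    show ∏ j, χ j (Pi.mulSingle (M := fun _ => Fˣ) i a j) = χ i a
    rw [Finset.prod_eq_single i (fun j _ hj => by rw [Pi.mulSingle_eq_of_ne hj, map_one])
      (fun h => absurd (Finset.mem_univ i) h), Pi.mulSingle_eq_same]
  refine ⟨⟨θf, ?_, ?_, fun i hi a => by rw [hE', hK i hi]; simp⟩, hE'⟩
  · rw [hval 1 1 (by simp), map_one, Units.val_one]
  · intro a ha b hb
    obtain ⟨c, hc⟩ := hpre a ha
    obtain ⟨d, hd⟩ := hpre b hb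
    rw [hval a c hc, hval b d hd, hval (a * b) (c * d) (by rw [Subgroup.coe_mul, hc, hd, map_mul]),
      map_mul, Units.val_mul]

include Φ in
/-- Steinberg's count, when the diagonal subgroup is as large as possible. -/
theorem card_semisimple_classes (p : ℕ) [Fact p.Prime] [CharP F p]
    (hH : Nat.card (D.diagonalSubgroup F) = (Fintype.card F - 1) ^ D.rank) :
    Nat.card {c : ConjClasses ↥(D.group F) //
      ∃ g : ↥(D.group F), ConjClasses.mk g = c ∧ (orderOf g).Coprime p} =
      Fintype.card F ^ D.rank := by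
  haveI : CharP (AlgebraicClosure F) p :=
    charP_of_injective_algebraMap (algebraMap F (AlgebraicClosure F)).injective p
  let k := AlgebraicClosure F
  obtain ⟨r, d, π, hd, hπ, m, hm⟩ :=
    CfsgLib.Blocks.exists_pi_quotient (k := k) (A := MonoidAlgebra k ↥(D.group F))
  haveI := hd
  rw [card_regular_classes p π hπ hm]
  let Z := Φ.defectDatum F p
  let P : Fin r → (Fin D.rank → Wt1 k F) → Prop := fun j t =>
    ∃ v, v ≠ 0 ∧ IsWt Z (facRep π j) (fun i a => ((t i).1.1 a : k))
      (fun i => muVal k (t i).1.2) v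
  have hsimp : ∀ j, IsSimpleRep (facRep π j) :=
    fun j => simple_of_surjective (facRep_surjective π hπ j)
  have hne : ∀ j, ∃ v : Fin (d j) → k, v ≠ 0 := fun j => ⟨Pi.single 0 1, by simp⟩
  have hex : ∀ j, ∃ t, P j t := by
    intro j
    obtain ⟨v0, hv0⟩ := hne j
    obtain ⟨lam, μ, v, hv, hw⟩ := exists_wt (p := p) Φ (facRep π j) hv0
    let χ : Fin D.rank → Fˣ →* kˣ := fun i => lamHom hw.toPreWt hv i
    have hμ : ∀ i, μ i * μ i = (if χ i = 1 then -1 else 0) * μ i := by
      intro i
      have h := op_op hw.toPreWt i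
      rw [hw.hecke, map_smul, hw.hecke, smul_smul, smul_smul] at h
      rw [← sum_char (p := p) (χ i)]
      exact smul_left_injective k hv h
    have hμ' : ∀ i, μ i = 0 ∨ (μ i = -1 ∧ χ i = 1) := by
      intro i
      have h := hμ i
      by_cases h0 : μ i = 0
      · exact Or.inl h0
      · have h' := mul_right_cancel₀ h0 h
        split_ifs at h' with hχ
        · exact Or.inr ⟨h', hχ⟩
        · exact absurd h' h0
    let t : Fin D.rank → Wt1 k F := fun i => ⟨(χ i, decide (μ i ≠ 0)), fun hne' => by
      rcases hμ' i with h | ⟨-, h⟩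
      · simp [h]
      · exact absurd h hne'⟩
    refine ⟨t, v, hv, ?_⟩
    have e : (fun i => muVal k (t i).1.2) = μ := by
      funext i
      show muVal k (decide (μ i ≠ 0)) = μ i
      rcases hμ' i with h | ⟨h, -⟩ <;> simp [h, muVal]
    exact (congrArg (fun mm => IsWt Z (facRep π j) lam mm v) e).mpr hw
  have huniq : ∀ j t t', P j t → P j t' → t = t' := by
    rintro j t t' ⟨v, hv, hw⟩ ⟨v', hv', hw'⟩
    obtain ⟨v0, hv0⟩ := hne j
    obtain ⟨f, hf⟩ : ∃ f : Module.Dual k (Fin (d j) → k), f v0 ≠ 0 := by
      by_contra! h'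
      exact hv0 ((Module.forall_dual_apply_eq_zero_iff k v0).1 h')
    obtain ⟨lam', μ', φ, hφ, hφw⟩ := exists_wt (p := p) Φ
      (M := Module.Dual k (Fin (d j) → k)) (dualRep (facRep π j))
      (v0 := f) (fun h => hf (by rw [h]; rfl))
    obtain ⟨h1, h2⟩ := wt_unique (hsimp j) hφw hφ hw hv hw' hv'
    funext i
    refine Subtype.ext (Prod.ext (MonoidHom.ext fun a => Units.ext ?_) (muVal_inj (k := k) ?_))
    · exact congr_fun (congr_fun h1 i) a
    · exact congr_fun h2 i
  have hinj : ∀ j j' t, P j t → P j' t → j = j' := by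
    rintro j j' t ⟨v, hv, hw⟩ ⟨v', hv', hw'⟩
    by_contra hne'
    obtain ⟨a, ha⟩ := hπ (Pi.single j 1)
    refine wt_pair (hsimp j) (hsimp j') ⟨a, ?_, ?_⟩ hw hv hw' hv'
    · refine LinearMap.ext fun w => ?_
      rw [facRep_apply, ha, Pi.single_eq_same, Matrix.one_mulVec]; rfl
    · refine LinearMap.ext fun w => ?_
      rw [facRep_apply, ha, Pi.single_eq_of_ne (Ne.symm hne'), Matrix.zero_mulVec]; rfl
  have hsurj : ∀ t, ∃ j, P j t := by
    intro t
    let K : Set (Fin D.rank) := {i | (t i).1.1 = 1 ∧ (t i).1.2 = false}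
    obtain ⟨θ, hθ⟩ := exists_theta (k := k) Φ hH (fun i => (t i).1.1) K (fun i hi => hi.1)
    obtain ⟨hn, πd, hπdW, hm0, hneg, -⟩ := (Φ.exists_long_element F).choose_spec
    set nd : ↥(D.group F) := ⟨(Φ.exists_long_element F).choose, Φ.N_le_group hn⟩
    have hx := xVec_ne θ nd hn hm0 hneg
    have hw := xVec_wt (p := p) θ nd hn hm0 hneg
    obtain ⟨j, w, hw0, hann⟩ := exists_transfer π hπ hm hx
    have htr : ∀ (a : MonoidAlgebra k ↥(D.group F)) (c : k),
        Lrep k _ a (xVec θ nd) = c • xVec θ nd → facRep π j a w = c • w := by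
      intro a c h
      have h' := hann (a - c • 1) (by
        rw [sub_mul, smul_mul_assoc, one_mul, sub_eq_zero]
        exact h)
      rwa [map_sub, map_smul, map_one, LinearMap.sub_apply, LinearMap.smul_apply,
        Module.End.one_apply, sub_eq_zero] at h'
    refine ⟨j, w, hw0, ⟨fun u hu => ?_, fun (i : Fin D.rank) a => ?_⟩, fun (i : Fin D.rank) => ?_⟩
    · have := htr (g' k u) 1 (by rw [one_smul]; exact hw.fix u hu)
      rwa [one_smul] at this
    · rw [show (((t i).1.1 a : kˣ) : k) = θ.θ (hE Φ i a) from (hθ i a).symm]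
      exact htr _ _ (hw.eig i a)
    · have h := htr _ _ (hw.hecke i)
      convert h using 2
      simp only [hθ]
      rw [sum_char (p := p)]
      split_ifs with hK h1
      · have hb : (t i).1.2 = false := hK.2
        simp [hb, muVal]
      · have hb : (t i).1.2 = true := by
          by_contra hb
          exact hK ⟨h1, Bool.not_eq_true _ |>.mp hb⟩
        simp [hb, muVal]
      · simp [(t i).2 h1, muVal]
  choose T hT using hex
  have hbij : Function.Bijective T := by
    refine ⟨fun j j' h => hinj j j' (T j) (hT j) (h ▸ hT j'), fun t => ?_⟩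
    obtain ⟨j, hj⟩ := hsurj t
    exact ⟨j, huniq j _ _ (hT j) hj⟩
  haveI : Finite (Wt1 k F) := Nat.finite_of_card_ne_zero (by
    rw [card_Wt1 (p := p)]; exact Fintype.card_pos.ne')
  have h := Nat.card_eq_of_bijective T hbij
  rw [Nat.card_fin, Nat.card_fun, card_Wt1 (p := p), Nat.card_fin] at h
  exact h

end CfsgLib.ModularWeights
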