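import Cfsg.Agent.Lib.ModularWeights.Weight
import Cfsg.Agent.Lib.Chev.DefectZero
import Cfsg.Agent.Lib.Chev.UnipCount

/-!
# Hecke operators attached to monomial elements

For a monomial element `n` the operator `Tn n` is the sum of representatives of the cosets of `U`
in `U n U`. Multiplying by the operator of a fundamental root which lengthens `n` gives the operator
of the product, and every nonzero module has a weight vector.
-/

set_option linter.unusedSectionVars false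
set_option linter.unusedVariables false
set_option autoImplicit false

namespace CfsgLib.ModularWeights

open CfsgLib.DefectZeroBN CfsgLib.Chev MonoidAlgebra Cfsg.Lie
open scoped Classical

variable {k : Type*} [Field k] {p : ℕ} [Fact p.Prime] [CharP k p]
variable {D : ChevalleyDatum} (Φ : Chev D)
variable {F : Type*} [Field F] [Fintype F] [CharP F p]

/-- The unipotent subgroup inside the group. -/
abbrev UG (D : ChevalleyDatum) (F : Type*) [Field F] : Subgroup ↥(D.group F) :=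
  (D.posUnipotent F).subgroupOf (D.group F)

/-- The diagonal subgroup inside the group. -/
abbrev HG (D : ChevalleyDatum) (F : Type*) [Field F] : Subgroup ↥(D.group F) :=
  (D.diagonalSubgroup F).subgroupOf (D.group F)

noncomputable instance groupFintype : Fintype ↥(D.group F) := Fintype.ofFinite _

/-- The lift of a fundamental reflection. -/
noncomputable abbrev nE (F : Type*) [Field F] [Fintype F] (i : Fin D.rank) : ↥(D.group F) :=
  ⟨Φ.nw (Φ.p i) 1, Φ.nw_mem_group _ _⟩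

/-- The diagonal element of a fundamental root. -/
noncomputable abbrev hE (i : Fin D.rank) (a : Fˣ) : ↥(D.group F) :=
  (Φ.rankOneIn F (Φ.p i)).h a

include Φ in
theorem H_normalizes {h : ↥(D.group F)} (hh : h ∈ HG D F) {u : ↥(D.group F)} (hu : u ∈ UG D F) :
    h * u * h⁻¹ ∈ UG D F :=
  (Subgroup.mem_normalizer_iff.1 (Φ.H_le_normalizer_U hh) _).1 hu

include Φ in
theorem H_normalizes' {h : ↥(D.group F)} (hh : h ∈ HG D F) {u : ↥(D.group F)} (hu : u ∈ UG D F) :
    h⁻¹ * u * h ∈ UG D F := by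
  simpa using H_normalizes Φ ((HG D F).inv_mem hh) hu

include Φ in
theorem HG_conj {n h : ↥(D.group F)} (hn : (n : GL D.Idx F) ∈ D.monomialSubgroup F)
    (hh : h ∈ HG D F) : n * h * n⁻¹ ∈ HG D F :=
  Φ.H_conj_mem hn hh

include Φ in
theorem HG_conj' {n h : ↥(D.group F)} (hn : (n : GL D.Idx F) ∈ D.monomialSubgroup F)
    (hh : h ∈ HG D F) : n⁻¹ * h * n ∈ HG D F :=
  Φ.H_conj_mem' hn hh

/-- The cosets of `U` in `U n U`. -/
noncomputable def orb (n : ↥(D.group F)) : Finset (↥(D.group F) ⧸ UG D F) :=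
  Finset.univ.filter fun y => ∃ u ∈ UG D F, y = QuotientGroup.mk (u * n)

theorem mem_orb {n : ↥(D.group F)} {y : ↥(D.group F) ⧸ UG D F} :
    y ∈ orb n ↔ ∃ u ∈ UG D F, y = QuotientGroup.mk (u * n) := by
  simp [orb]

/-- The Hecke operator of a group element. -/
noncomputable def Tn (k : Type*) [Field k] (n : ↥(D.group F)) : MonoidAlgebra k ↥(D.group F) :=
  ∑ y ∈ orb n, g' k y.out

theorem out_eq {a : ↥(D.group F)} : ∃ u ∈ UG D F, (QuotientGroup.mk a : _ ⧸ UG D F).out = a * u := by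
  obtain ⟨⟨u, hu⟩, h⟩ := QuotientGroup.mk_out_eq_mul (UG D F) a
  exact ⟨u, hu, h⟩

theorem out_mem_orb {n : ↥(D.group F)} {y : ↥(D.group F) ⧸ UG D F} (hy : y ∈ orb n) :
    ∃ u ∈ UG D F, ∃ u' ∈ UG D F, y.out = u * n * u' := by
  obtain ⟨u, hu, rfl⟩ := mem_orb.1 hy
  obtain ⟨u', hu', e⟩ := out_eq (a := u * n)
  exact ⟨u, hu, u', hu', e⟩

variable {M : Type*} [AddCommGroup M] [Module k M]
variable {A : MonoidAlgebra k ↥(D.group F) →ₐ[k] Module.End k M} {z : M}

/-- Fixed by `U`. -/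
def UFix (A : MonoidAlgebra k ↥(D.group F) →ₐ[k] Module.End k M) (z : M) : Prop :=
  ∀ u ∈ UG D F, ga A u z = z

theorem act_congr (hz : UFix A z) {a b : ↥(D.group F)}
    (h : (QuotientGroup.mk a : _ ⧸ UG D F) = QuotientGroup.mk b) : ga A a z = ga A b z := by
  have h' := QuotientGroup.eq.1 h
  rw [show b = a * (a⁻¹ * b) by group, ga_mul, hz _ h']

theorem act_out (hz : UFix A z) (a : ↥(D.group F)) :
    ga A (QuotientGroup.mk a : _ ⧸ UG D F).out z = ga A a z :=
  act_congr hz (QuotientGroup.out_eq' _)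

theorem Tn_apply (n : ↥(D.group F)) : A (Tn k n) z = ∑ y ∈ orb n, ga A y.out z := by
  simp [Tn, map_sum, ga]

theorem Tn_fix (hz : UFix A z) (n : ↥(D.group F)) : UFix A (A (Tn k n) z) := by
  intro u hu
  rw [Tn_apply, map_sum]
  refine Finset.sum_bij' (fun y _ => u • y) (fun y _ => u⁻¹ • y) ?_ ?_ ?_ ?_ ?_
  · intro y hy
    obtain ⟨v, hv, rfl⟩ := mem_orb.1 hy
    exact mem_orb.2 ⟨u * v, (UG D F).mul_mem hu hv, by rw [mul_assoc u]; rfl⟩
  · intro y hy
    obtain ⟨v, hv, rfl⟩ := mem_orb.1 hy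
    exact mem_orb.2 ⟨u⁻¹ * v, (UG D F).mul_mem ((UG D F).inv_mem hu) hv,
      by rw [mul_assoc u⁻¹]; rfl⟩
  · intro y _; exact inv_smul_smul u y
  · intro y _; exact smul_inv_smul u y
  · intro y _
    induction y using QuotientGroup.induction_on with
    | _ a =>
      rw [show u • (QuotientGroup.mk a : _ ⧸ UG D F) = QuotientGroup.mk (u * a) from rfl,
        act_out hz, act_out hz, ← ga_mul]

include Φ in
/-- The diagonal elements move past a Hecke operator. -/
theorem Tn_H (hz : UFix A z) {n h : ↥(D.group F)} (hn : (n : GL D.Idx F) ∈ D.monomialSubgroup F)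
    (hh : h ∈ HG D F) :
    ga A h (A (Tn k n) z) = A (Tn k n) (ga A (n⁻¹ * h * n) z) := by
  set h' := n⁻¹ * h * n with hh'
  have hh'H : h' ∈ HG D F := HG_conj' Φ hn hh
  have hz' : UFix A (ga A h' z) := fun u hu => by
    rw [← ga_mul, show u * h' = h' * (h'⁻¹ * u * h') by group, ga_mul,
      hz _ (H_normalizes' Φ hh'H hu)]
  rw [Tn_apply, Tn_apply, map_sum]
  refine Finset.sum_bij' (fun y _ => (QuotientGroup.mk (h * y.out * h'⁻¹) : _ ⧸ UG D F))
    (fun y _ => (QuotientGroup.mk (h⁻¹ * y.out * h') : _ ⧸ UG D F)) ?_ ?_ ?_ ?_ ?_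
  · intro y hy
    obtain ⟨u, hu, u', hu', e⟩ := out_mem_orb hy
    refine mem_orb.2 ⟨h * u * h⁻¹, H_normalizes Φ hh hu, QuotientGroup.eq.2 ?_⟩
    have := (UG D F).inv_mem (H_normalizes Φ hh'H hu')
    rw [e, hh']
    rw [hh'] at this
    convert this using 1
    group
  · intro y hy
    obtain ⟨u, hu, u', hu', e⟩ := out_mem_orb hy
    refine mem_orb.2 ⟨h⁻¹ * u * h, H_normalizes' Φ hh hu, QuotientGroup.eq.2 ?_⟩
    have := (UG D F).inv_mem (H_normalizes' Φ hh'H hu')
    rw [e, hh']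
    rw [hh'] at this
    convert this using 1
    group
  · intro y _
    obtain ⟨u, hu, e⟩ := out_eq (a := h * y.out * h'⁻¹)
    rw [e]
    conv_rhs => rw [← QuotientGroup.out_eq' y]
    refine QuotientGroup.eq.2 ?_
    have := (UG D F).inv_mem (H_normalizes' Φ hh'H hu)
    convert this using 1
    group
  · intro y _
    obtain ⟨u, hu, e⟩ := out_eq (a := h⁻¹ * y.out * h')
    rw [e]
    conv_rhs => rw [← QuotientGroup.out_eq' y]
    refine QuotientGroup.eq.2 ?_
    have := (UG D F).inv_mem (H_normalizes Φ hh'H hu)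
    convert this using 1
    group
  · intro y _
    rw [act_out hz', ← ga_mul, ← ga_mul, inv_mul_cancel_right]

include Φ in
theorem Tn_mul_H (hz : UFix A z) {n h : ↥(D.group F)} (hh : h ∈ HG D F) :
    A (Tn k (n * h)) z = A (Tn k n) (ga A h z) := by
  have hz' : UFix A (ga A h z) := fun u hu => by
    rw [← ga_mul, show u * h = h * (h⁻¹ * u * h) by group, ga_mul, hz _ (H_normalizes' Φ hh hu)]
  rw [Tn_apply, Tn_apply]
  refine Finset.sum_bij' (fun y _ => (QuotientGroup.mk (y.out * h⁻¹) : _ ⧸ UG D F))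
    (fun y _ => (QuotientGroup.mk (y.out * h) : _ ⧸ UG D F)) ?_ ?_ ?_ ?_ ?_
  · intro y hy
    obtain ⟨u, hu, u', hu', e⟩ := out_mem_orb hy
    refine mem_orb.2 ⟨u, hu, QuotientGroup.eq.2 ?_⟩
    have := (UG D F).inv_mem (H_normalizes Φ hh hu')
    rw [e]
    convert this using 1
    group
  · intro y hy
    obtain ⟨u, hu, u', hu', e⟩ := out_mem_orb hy
    refine mem_orb.2 ⟨u, hu, QuotientGroup.eq.2 ?_⟩
    have := (UG D F).inv_mem (H_normalizes' Φ hh hu')
    rw [e]
    convert this using 1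
    group
  · intro y _
    obtain ⟨u, hu, e⟩ := out_eq (a := y.out * h⁻¹)
    rw [e]
    conv_rhs => rw [← QuotientGroup.out_eq' y]
    refine QuotientGroup.eq.2 ?_
    have := (UG D F).inv_mem (H_normalizes' Φ hh hu)
    convert this using 1
    group
  · intro y _
    obtain ⟨u, hu, e⟩ := out_eq (a := y.out * h)
    rw [e]
    conv_rhs => rw [← QuotientGroup.out_eq' y]
    refine QuotientGroup.eq.2 ?_
    have := (UG D F).inv_mem (H_normalizes Φ hh hu)
    convert this using 1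
    group
  · intro y _
    rw [act_out hz', ← ga_mul, inv_mul_cancel_right]

theorem Tn_one (hz : UFix A z) : A (Tn k (1 : ↥(D.group F))) z = z := by
  have e : orb (1 : ↥(D.group F)) = {(QuotientGroup.mk 1 : _ ⧸ UG D F)} := by
    ext y
    rw [mem_orb, Finset.mem_singleton]
    constructor
    · rintro ⟨u, hu, rfl⟩
      exact QuotientGroup.eq.2 (by simpa using hu)
    · rintro rfl
      exact ⟨1, (UG D F).one_mem, by rw [mul_one]⟩
  rw [Tn_apply, e, Finset.sum_singleton, act_out hz, ga_one]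

include Φ in
/-- Lengthening. -/
theorem op_Tn (hz : UFix A z) (i : Fin D.rank) {n : ↥(D.group F)}
    (hn : (n : GL D.Idx F) ∈ D.monomialSubgroup F) {π : Equiv.Perm (Fin D.nroots)}
    (hπ : Φ.Mono (n : GL D.Idx F) π) (hp : Φ.toTables.Pos (π⁻¹ (Φ.p i))) :
    A (op (Φ.defectDatum F p) k i) (A (Tn k n) z) = A (Tn k (nE Φ F i * n)) z := by
  let R := Φ.rankOneIn F (Φ.p i)
  have hRn : R.n 1 = nE Φ F i := rfl
  have hx : ∀ t, R.x t ∈ UG D F := fun t => Φ.xg_mem_U (Φ.p_pos i) t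
  have hnx : ∀ s, n⁻¹ * R.x s * n ∈ UG D F := by
    intro s
    obtain ⟨a', -, ha', -⟩ := (Φ.mono_inv hn hπ).1 (Φ.p i)
    show (n : GL D.Idx F)⁻¹ * Φ.toAlg.xg (Φ.p i) s * n ∈ D.posUnipotent F
    have := ha' s
    rw [inv_inv] at this
    rw [this]
    exact Φ.xg_mem_U hp _
  have hUc : ∀ v : ↥(D.group F), (v : GL D.Idx F) ∈ Φ.US F (Φ.PosNe i) →
      nE Φ F i * v * (nE Φ F i)⁻¹ ∈ UG D F ∧ (nE Φ F i)⁻¹ * v * nE Φ F i ∈ UG D F := by
    intro v hv
    refine ⟨Φ.posNe_le_U (Φ.nw_conj_posNe i hv), ?_⟩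
    have hcn := ((Φ.defectDatum F p).hUcn i ((nE Φ F i)⁻¹ * v * nE Φ F i)).2 (by
      show (nE Φ F i * ((nE Φ F i)⁻¹ * v * nE Φ F i) * (nE Φ F i)⁻¹) ∈
        (Φ.US F (Φ.PosNe i)).subgroupOf (D.group F)
      rw [show nE Φ F i * ((nE Φ F i)⁻¹ * v * nE Φ F i) * (nE Φ F i)⁻¹ = v by group]
      exact hv)
    exact Φ.posNe_le_U hcn
  have hl : A (op (Φ.defectDatum F p) k i) (A (Tn k n) z) =
      ∑ q ∈ (Finset.univ : Finset F) ×ˢ orb n, ga A (R.x q.1 * nE Φ F i * q.2.out) z := by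
    rw [op_apply (Φ.defectDatum F p) A i]
    change ∑ t : F, ga A (R.x t) (ga A (nE Φ F i) (A (Tn k n) z)) = _
    rw [Tn_apply, Finset.sum_product]
    simp only [map_sum]
    refine Finset.sum_congr rfl fun t _ => Finset.sum_congr rfl fun y _ => ?_
    rw [ga_mul, ga_mul]
  rw [hl, Tn_apply]
  refine Finset.sum_bij (fun q _ => (QuotientGroup.mk (R.x q.1 * nE Φ F i * q.2.out) : _ ⧸ UG D F))
    ?_ ?_ ?_ ?_
  · rintro ⟨t, y⟩ hq
    obtain ⟨u, hu, u', hu', e⟩ := out_mem_orb (Finset.mem_product.1 hq).2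
    obtain ⟨v, hv, s, hs⟩ := (Φ.defectDatum F p).hsplit i u hu
    refine mem_orb.2 ⟨R.x t * (nE Φ F i * v * (nE Φ F i)⁻¹),
      (UG D F).mul_mem (hx t) (hUc v hv).1, QuotientGroup.eq.2 ?_⟩
    have := (UG D F).inv_mem ((UG D F).mul_mem (hnx s) hu')
    rw [e, hs]
    change (R.x t * nE Φ F i * (v * R.x s * n * u'))⁻¹ *
      (R.x t * (nE Φ F i * v * (nE Φ F i)⁻¹) * (nE Φ F i * n)) ∈ UG D F
    convert this using 1
    group
  · rintro ⟨t, y⟩ hq ⟨t', y'⟩ hq' h
    simp only at h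
    have hy := (Finset.mem_product.1 hq).2
    have hy' := (Finset.mem_product.1 hq').2
    have ht : t = t' := by
      by_contra hne
      have hd : t - t' ≠ 0 := sub_ne_zero.2 hne
      obtain ⟨w, hw, hweq⟩ : ∃ w ∈ UG D F,
          R.x t' * nE Φ F i * y'.out = R.x t * nE Φ F i * y.out * w :=
        ⟨_, QuotientGroup.eq.1 h, by group⟩
      obtain ⟨u, hu, u1, hu1, e⟩ := out_mem_orb hy
      obtain ⟨u', hu', u2, hu2, e'⟩ := out_mem_orb hy'
      -- a lower root element would join the cell of `n` to a longer one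
      have h1 : R.n 1 * R.x (-(t - t')) = R.y (t - t') * R.n 1 := by rw [R.n_x, neg_neg]
      let su : Fˣ := Units.mk0 _ hd
      have hy1 := rankOne_y R su
      have hx' : R.x (t' - t) = R.x (-(t - t')) := by rw [neg_sub]
      have key : R.y (t - t') * u' * n * u2 = u * n * u1 * w := by
        rw [e, e'] at hweq
        have : R.x (t' - t) * nE Φ F i * (u' * n * u2) = nE Φ F i * (u * n * u1) * w := by
          rw [sub_eq_add_neg, add_comm, R.x_add, R.x_neg]
          calc (R.x t)⁻¹ * R.x t' * nE Φ F i * (u' * n * u2)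
              = (R.x t)⁻¹ * (R.x t' * nE Φ F i * (u' * n * u2)) := by group
            _ = _ := by rw [hweq]; group
        have h2 : R.x (t' - t) * nE Φ F i = nE Φ F i * R.y (t - t') := by
          rw [hx', ← hRn]
          have h3 := congrArg (fun g => (R.n 1)⁻¹ * g) (R.n_x (-(t - t')))
          have hsq := R.n_sq
          rw [neg_neg] at h3
          have h4 : R.n 1 * R.y (t - t') = R.x (-(t - t')) * R.n 1 := by
            rw [← rankOne_n R, ← R.hom_u, ← R.hom_l, ← map_mul, ← map_mul]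
            congr 1
            apply Subtype.ext
            simp only [RankOne.val_mul]
            ext a b; fin_cases a <;> fin_cases b <;>
              simp [RankOne.u, RankOne.l, RankOne.w, Matrix.mul_apply, Fin.sum_univ_two]
          exact h4.symm
        rw [h2, mul_assoc (nE Φ F i) (R.y _), mul_assoc (nE Φ F i)] at this
        have := mul_left_cancel this
        simpa only [mul_assoc] using this
      have hxB : ∀ a : F, ((R.x a : ↥(D.group F)) : GL D.Idx F) ∈ D.borelSubgroup F := fun a => Chev.U_le_B (hx a)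
      have hhB : ((R.h (-su⁻¹) : ↥(D.group F)) : GL D.Idx F) ∈ D.borelSubgroup F :=
        Chev.H_le_B (Φ.hw_mem_H _ _)
      obtain ⟨c1, hc1, c2, hc2, e5⟩ := (Φ.simple_mul_cell hn hπ i
        (b := ((R.x ↑su⁻¹ : ↥(D.group F)) : GL D.Idx F) * (u' : GL D.Idx F))
        ((D.borelSubgroup F).mul_mem (hxB _) (Chev.U_le_B hu'))).1 hp
      have key' := congrArg (fun g : ↥(D.group F) => (g : GL D.Idx F)) key
      simp only [show R.y (t - t') = R.y (su : F) from rfl, hy1, Subgroup.coe_mul] at key'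
      have hN : Φ.nw (Φ.p i) 1 * (n : GL D.Idx F) ∈ D.monomialSubgroup F :=
        mul_mem (Φ.nw_mem_N _ _) hn
      have := Φ.bnb_unique
        (b := ((R.x ↑su⁻¹ : ↥(D.group F)) : GL D.Idx F) * ((R.h (-su⁻¹) : ↥(D.group F)) : GL D.Idx F) * c1) (c := c2 * (u2 : GL D.Idx F))
        (n := Φ.nw (Φ.p i) 1 * (n : GL D.Idx F)) (b' := (u : GL D.Idx F)) (n' := (n : GL D.Idx F)) (c' := (u1 : GL D.Idx F) * (w : GL D.Idx F))
        ((D.borelSubgroup F).mul_mem ((D.borelSubgroup F).mul_mem (hxB _) hhB) hc1)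
        (Chev.U_le_B hu) ((D.borelSubgroup F).mul_mem hc2 (Chev.U_le_B hu2))
        ((D.borelSubgroup F).mul_mem (Chev.U_le_B hu1) (Chev.U_le_B hw)) hN hn (by
          rw [show (u : GL D.Idx F) * n * ((u1 : GL D.Idx F) * w) =
            (u : GL D.Idx F) * n * u1 * w by group, ← key']
          calc ((R.x ↑su⁻¹ : ↥(D.group F)) : GL D.Idx F) * ((R.h (-su⁻¹) : ↥(D.group F)) : GL D.Idx F) * c1 * (Φ.nw (Φ.p i) 1 * (n : GL D.Idx F)) * (c2 * (u2 : GL D.Idx F))
              = ((R.x ↑su⁻¹ : ↥(D.group F)) : GL D.Idx F) * ((R.h (-su⁻¹) : ↥(D.group F)) : GL D.Idx F) *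
                  (c1 * (Φ.nw (Φ.p i) 1 * (n : GL D.Idx F)) * c2) * (u2 : GL D.Idx F) := by group
            _ = _ := by
                rw [← e5, ← show ((R.n 1 : ↥(D.group F)) : GL D.Idx F) = Φ.nw (Φ.p i) 1 from rfl]
                group)
      have hmono : Φ.Mono (Φ.nw (Φ.p i) 1 * (n : GL D.Idx F)) (Φ.reflPerm i * π) :=
        Chev.Mono.mul Φ (Φ.nw_one_mono i) hπ
      have heq := Φ.same_perm this hmono hπ
      rw [mul_eq_right] at heq
      have hc := congrArg (fun σ : Equiv.Perm _ => σ (Φ.p i)) heq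
      change Φ.refl i (Φ.p i) = Φ.p i at hc
      rw [Φ.refl_p] at hc
      have := (Φ.pos_rev_iff (Φ.p i)).1 (by rw [hc]; exact Φ.p_pos i)
      exact this (Φ.p_pos i)
    subst ht
    have hyy : y = y' := by
      have e1 : ∀ w : ↥(D.group F), (nE Φ F i)⁻¹ • ((R.x t)⁻¹ •
          (QuotientGroup.mk (R.x t * nE Φ F i * w) : _ ⧸ UG D F)) = QuotientGroup.mk w := fun w => by
        show (QuotientGroup.mk ((nE Φ F i)⁻¹ * ((R.x t)⁻¹ * (R.x t * nE Φ F i * w))) :
          _ ⧸ UG D F) = _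
        congr 1
        group
      have := congrArg (fun q : _ ⧸ UG D F => (nE Φ F i)⁻¹ • ((R.x t)⁻¹ • q)) h
      simp only [e1, QuotientGroup.out_eq'] at this
      exact this
    rw [hyy]
  · intro y hy
    obtain ⟨u, hu, rfl⟩ := mem_orb.1 hy
    obtain ⟨v, hv, s, hs⟩ := (Φ.defectDatum F p).hsplit i u⁻¹ ((UG D F).inv_mem hu)
    let y0 : ↥(D.group F) ⧸ UG D F := QuotientGroup.mk ((nE Φ F i)⁻¹ * v⁻¹ * nE Φ F i * n)
    have hv' : (nE Φ F i)⁻¹ * v⁻¹ * nE Φ F i ∈ UG D F :=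
      (hUc v⁻¹ (Subgroup.inv_mem _ hv)).2
    refine ⟨(-s, y0), Finset.mem_product.2 ⟨Finset.mem_univ _, mem_orb.2 ⟨_, hv', rfl⟩⟩, ?_⟩
    obtain ⟨w, hw, e⟩ := out_eq (a := (nE Φ F i)⁻¹ * v⁻¹ * nE Φ F i * n)
    simp only [y0, e]
    refine QuotientGroup.eq.2 ?_
    have hu' : u = R.x (-s) * v⁻¹ := by
      have : u = (u⁻¹)⁻¹ := (inv_inv u).symm
      rw [this, hs, _root_.mul_inv_rev, R.x_neg]
      rfl
    rw [hu']
    convert (UG D F).inv_mem hw using 1
    group
  · rintro ⟨t, y⟩ _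
    rw [act_out hz]

include Φ in
/-- The permutation of a monomial element. -/
noncomputable def perm (n : ↥(D.group F)) : Equiv.Perm (Fin D.nroots) :=
  if h : (n : GL D.Idx F) ∈ D.monomialSubgroup F then (Φ.exists_mono_W h).choose else 1

theorem perm_spec {n : ↥(D.group F)} (h : (n : GL D.Idx F) ∈ D.monomialSubgroup F) :
    perm Φ n ∈ Φ.WL ∧ Φ.Mono (n : GL D.Idx F) (perm Φ n) := by
  rw [perm, dif_pos h]
  exact ⟨(Φ.exists_mono_W h).choose_spec.1, (Φ.exists_mono_W h).choose_spec.2.1⟩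

/-- The sum of the values of a character on a rank one diagonal subgroup, after conjugation. -/
noncomputable def csum (θ : ↥(D.group F) → k) (n : ↥(D.group F)) (i : Fin D.rank) : k :=
  ∑ a : Fˣ, θ (n⁻¹ * hE Φ i a * n)

include Φ in
/-- Shortening. -/
theorem op_Tn_down (hz : UFix A z) {θ : ↥(D.group F) → k}
    (hθ : ∀ h ∈ HG D F, ga A h z = θ h • z) (i : Fin D.rank) {n : ↥(D.group F)}
    (hn : (n : GL D.Idx F) ∈ D.monomialSubgroup F) {π : Equiv.Perm (Fin D.nroots)}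
    (hπ : Φ.Mono (n : GL D.Idx F) π) (hp : ¬ Φ.toTables.Pos (π⁻¹ (Φ.p i))) :
    A (op (Φ.defectDatum F p) k i) (A (Tn k n) z) =
      csum Φ θ ((nE Φ F i)⁻¹ * n) i • A (Tn k n) z := by
  set n' := (nE Φ F i)⁻¹ * n with hn'
  have hnN : (n' : GL D.Idx F) ∈ D.monomialSubgroup F := by
    show (Φ.nw (Φ.p i) 1)⁻¹ * (n : GL D.Idx F) ∈ _
    exact mul_mem (inv_mem (Φ.nw_mem_N _ _)) hn
  have hπW : π ∈ Φ.WL := Φ.mem_W_of_mono hn hπ
  have hmono : Φ.Mono (n' : GL D.Idx F) (Φ.reflPerm i * π) := by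
    have := Φ.mono_inv (Φ.nw_mem_N (Φ.p i) 1) (Φ.nw_one_mono (F := F) i)
    rw [Φ.reflPerm_inv'] at this
    exact Chev.Mono.mul Φ this hπ
  have hp' : Φ.toTables.Pos ((Φ.reflPerm i * π)⁻¹ (Φ.p i)) := by
    rw [_root_.mul_inv_rev, Φ.reflPerm_inv', Equiv.Perm.mul_apply]
    show Φ.toTables.Pos (π⁻¹ (Φ.refl i (Φ.p i)))
    rw [Φ.refl_p, Φ.map_rev (inv_mem hπW), Φ.pos_rev_iff]
    exact hp
  have hup := op_Tn (p := p) Φ hz i hnN hmono hp'
  rw [show nE Φ F i * n' = n by rw [hn']; group] at hup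
  have hpre : PreWt (Φ.defectDatum F p) A (fun j a => θ (n'⁻¹ * hE Φ j a * n'))
      (A (Tn k n') z) :=
    { fix := Tn_fix hz n'
      eig := fun j a => by
        have hh : hE Φ j a ∈ HG D F := Φ.hw_mem_H (Φ.p j) a
        show ga A (hE Φ j a) _ = _
        rw [Tn_H Φ hz hnN hh, hθ _ (HG_conj' Φ hnN hh), map_smul] }
  have h := op_op hpre i
  rw [hup] at h
  exact h

include Φ in
/-- Every nonzero finite dimensional module has a weight vector. -/
theorem exists_wt [IsAlgClosed k] [FiniteDimensional k M]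
    (A : MonoidAlgebra k ↥(D.group F) →ₐ[k] Module.End k M) {v0 : M} (hv0 : v0 ≠ 0) :
    ∃ lam μ v, v ≠ 0 ∧ IsWt (Φ.defectDatum F p) A lam μ v := by
  let W : Submodule k M :=
    { carrier := {w | UFix A w}
      add_mem' := fun {a b} ha hb u hu => by rw [map_add, ha u hu, hb u hu]
      zero_mem' := fun u hu => map_zero _
      smul_mem' := fun c a ha u hu => by rw [map_smul, ha u hu] }
  let ρ : ↥(UG D F) →* (M →ₗ[k] M) :=
    { toFun := fun u => ga A (u : ↥(D.group F))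
      map_one' := LinearMap.ext fun w => ga_one A w
      map_mul' := fun a b => LinearMap.ext fun w => ga_mul A _ _ w }
  obtain ⟨w0, -, hw0, hw0fix⟩ := CfsgLib.Blocks.exists_fixed_vector (Φ.defectDatum F p).hU ρ hv0 ⊤
    trivial (fun _ _ _ => trivial)
  have hWne : W ≠ ⊥ := (Submodule.ne_bot_iff _).2 ⟨w0, fun u hu => hw0fix ⟨u, hu⟩, hw0⟩
  obtain ⟨z, hzW, hz0, hev⟩ := exists_common_eigen (fun h : ↥(HG D F) => ga A (h : ↥(D.group F)))
    (fun s s' a => by
      rw [← ga_mul, ← ga_mul]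
      congr 2
      exact Subtype.ext (Φ.H_comm s.2 s'.2))
    (Module.finrank k W) W le_rfl hWne (fun s a ha u hu => by
      rw [← ga_mul, show u * (s : ↥(D.group F)) =
        (s : ↥(D.group F)) * ((s : ↥(D.group F))⁻¹ * u * s) by group, ga_mul,
        ha _ (H_normalizes' Φ s.2 hu)])
  choose θ0 hθ0 using hev
  have hz : UFix A z := hzW
  let θ : ↥(D.group F) → k := fun h => if hh : h ∈ HG D F then θ0 ⟨h, hh⟩ else 0
  have hθ : ∀ h ∈ HG D F, ga A h z = θ h • z := fun h hh => by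
    simp only [θ, dif_pos hh]; exact hθ0 ⟨h, hh⟩
  let S : Finset ↥(D.group F) := Finset.univ.filter fun n =>
    (n : GL D.Idx F) ∈ D.monomialSubgroup F ∧ A (Tn k n) z ≠ 0
  have hS : S.Nonempty := ⟨1, by simp [S, Tn_one hz, hz0]⟩
  obtain ⟨n, hnS, hmax⟩ := Finset.exists_max_image S (fun n => Φ.inv (perm Φ n)) hS
  simp only [S, Finset.mem_filter, Finset.mem_univ, true_and] at hnS hmax
  obtain ⟨hn, hne⟩ := hnS
  obtain ⟨hπW, hπ⟩ := perm_spec Φ hn
  have hT : ∀ i, ∃ c : k, A (op (Φ.defectDatum F p) k i) (A (Tn k n) z) = c • A (Tn k n) z := by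
    intro i
    by_cases hp : Φ.toTables.Pos ((perm Φ n)⁻¹ (Φ.p i))
    · refine ⟨0, ?_⟩
      rw [op_Tn Φ hz i hn hπ hp, zero_smul]
      by_contra hne'
      have hN : ((nE Φ F i * n : ↥(D.group F)) : GL D.Idx F) ∈ D.monomialSubgroup F :=
        mul_mem (Φ.nw_mem_N _ _) hn
      have h := hmax (nE Φ F i * n) ⟨hN, hne'⟩
      have e := Chev.Mono.unique Φ (perm_spec Φ hN).2
        (Chev.Mono.mul Φ (Φ.nw_one_mono (F := F) i) hπ)
      rw [e, Φ.inv_refl_mul hπW i hp] at h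
      omega
    · exact ⟨_, op_Tn_down Φ hz hθ i hn hπ hp⟩
  choose μ hμ using hT
  refine ⟨fun i a => θ (n⁻¹ * hE Φ i a * n), μ, _, hne, ⟨⟨Tn_fix hz n, fun i a => ?_⟩, hμ⟩⟩
  have hh : hE Φ i a ∈ HG D F := Φ.hw_mem_H (Φ.p i) a
  show ga A (hE Φ i a) _ = _
  rw [Tn_H Φ hz hn hh, hθ _ (HG_conj' Φ hn hh), map_smul]

end CfsgLib.ModularWeights
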