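import Cfsg.Agent.Lib.ModularWeights.Count
import Cfsg.Agent.Lib.Chev.Inst
import Cfsg.Agent.Lib.Chev.OrderB2
import Cfsg.Agent.Lib.Chev.OrderD4
import Cfsg.Agent.Lib.Chev.OrderE6
import Cfsg.Agent.Lib.Chev.OrderE7
import Cfsg.Agent.Lib.Chev.OrderE8
import Cfsg.Agent.Lib.Chev.OrderF4
import Cfsg.Agent.Lib.Chev.OrderG2

/-!
# Semisimple classes in the types with trivial centre
-/

set_option autoImplicit false

namespace CfsgLib.ModularWeights

open Cfsg.Lie CfsgLib.Chev

variable {F : Type*} [Field F] [Fintype F] {q : ℕ} (hq : Fintype.card F = q) (p : ℕ) [Fact p.Prime]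
  [CharP F p]

include hq in
theorem count_of_card {D : ChevalleyDatum} (Φ : Chev D) {g : ℕ} (hg : g = 1)
    (hH : g * Nat.card (D.diagonalSubgroup F) = (Nat.card F - 1) ^ D.rank) :
    Nat.card {c : ConjClasses ↥(D.group F) //
      ∃ x : ↥(D.group F), ConjClasses.mk x = c ∧ (orderOf x).Coprime p} = q ^ D.rank := by
  rw [hg, one_mul, Nat.card_eq_fintype_card (α := F)] at hH
  rw [card_semisimple_classes Φ p hH, hq]

include hq in
theorem count_G2F4E8 (D : ChevalleyDatum)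
    (hD : D ∈ [Cfsg.Lie.chevG2, Cfsg.Lie.chevF4, Cfsg.Lie.chevE8]) :
    Nat.card {c : ConjClasses ↥(D.group F) //
      ∃ g : ↥(D.group F), ConjClasses.mk g = c ∧ (orderOf g).Coprime p} = q ^ D.rank := by
  simp only [List.mem_cons, List.not_mem_nil, or_false] at hD
  rcases hD with rfl | rfl | rfl
  · exact count_of_card hq p CfsgLib.Chev.chevG2 (Finset.prod_eq_one fun k _ => by
      fin_cases k <;> simp) (CfsgLib.Chev.cardHG2 CfsgLib.Chev.chevG2 F)
  · exact count_of_card hq p CfsgLib.Chev.chevF4 (Finset.prod_eq_one fun k _ => by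
      fin_cases k <;> simp) (CfsgLib.Chev.cardHF4 CfsgLib.Chev.chevF4 F)
  · exact count_of_card hq p CfsgLib.Chev.chevE8 (Finset.prod_eq_one fun k _ => by
      fin_cases k <;> simp) (CfsgLib.Chev.cardHE8 CfsgLib.Chev.chevE8 F)

theorem odd_pred {F : Type*} [Field F] [Fintype F] [CharP F 2] : Odd (Fintype.card F - 1) := by
  obtain ⟨n, -, hn⟩ := FiniteField.card F 2
  rw [hn, Nat.odd_iff]
  have h2 : 2 ∣ 2 ^ (n : ℕ) := dvd_pow_self 2 n.ne_zero
  have h1 : 0 < 2 ^ (n : ℕ) := by positivity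
  omega

theorem count_B2D4E7 {F : Type*} [Field F] [Fintype F] {q : ℕ} (hq : Fintype.card F = q)
    [CharP F 2] (D : ChevalleyDatum)
    (hD : D ∈ [Cfsg.Lie.chevB2, Cfsg.Lie.chevD4, Cfsg.Lie.chevE7]) :
    Nat.card {c : ConjClasses ↥(D.group F) //
      ∃ g : ↥(D.group F), ConjClasses.mk g = c ∧ Odd (orderOf g)} = q ^ D.rank := by
  haveI : Fact (Nat.Prime 2) := ⟨Nat.prime_two⟩
  simp only [← Nat.coprime_two_right]
  simp only [List.mem_cons, List.not_mem_nil, or_false] at hD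
  rcases hD with rfl | rfl | rfl
  · exact count_of_card hq 2 CfsgLib.Chev.chevB2 (Finset.prod_eq_one fun k _ => by
      fin_cases k <;> simp [odd_pred]) (CfsgLib.Chev.cardHB2 CfsgLib.Chev.chevB2 F)
  · exact count_of_card hq 2 CfsgLib.Chev.chevD4 (Finset.prod_eq_one fun k _ => by
      fin_cases k <;> simp [odd_pred]) (CfsgLib.Chev.cardHD4 CfsgLib.Chev.chevD4 F)
  · exact count_of_card hq 2 CfsgLib.Chev.chevE7 (Finset.prod_eq_one fun k _ => by
      fin_cases k <;> simp [odd_pred]) (CfsgLib.Chev.cardHE7 CfsgLib.Chev.chevE7 F)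

include hq in
theorem count_E6 (hq3 : q % 3 ≠ 1) :
    Nat.card {c : ConjClasses ↥(Cfsg.Lie.chevE6.group F) //
      ∃ g : ↥(Cfsg.Lie.chevE6.group F), ConjClasses.mk g = c ∧ (orderOf g).Coprime p} = q ^ 6 := by
  have h3 : Nat.gcd (Nat.card F - 1) 3 = 1 := by
    rw [Nat.card_eq_fintype_card, hq, Nat.gcd_comm]
    have : 1 < q := by rw [← hq]; exact Fintype.one_lt_card
    exact (Nat.prime_three.coprime_iff_not_dvd).2 (by omega)
  exact count_of_card hq p CfsgLib.Chev.chevE6 (Finset.prod_eq_one fun k _ => by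
    fin_cases k <;> simp [h3, ← Nat.card_eq_fintype_card]) (CfsgLib.Chev.cardHE6 CfsgLib.Chev.chevE6 F)

end CfsgLib.ModularWeights
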