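import Cfsg.Agent.Lib.DefectZero.SplitBN

/-!
# Weights of modular representations

A weight vector of a representation in the defining characteristic of a group given by rank one
data is fixed by `U`, is an eigenvector of the `h_i(a)` and of the Hecke operators
`(∑ t, x_i(t)) n_i`. In a simple representation its translates under `V` span, there is at most one
weight line, and two simple representations which are jointly onto have different weights.
-/

set_option linter.unusedSectionVars false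
set_option linter.unusedVariables false
set_option autoImplicit false

namespace CfsgLib.ModularWeights

open CfsgLib.DefectZeroBN CfsgLib.Chev MonoidAlgebra
open scoped Classical

variable {k : Type*} [Field k] {p : ℕ} [Fact p.Prime] [CharP k p]
variable {G : Type*} [Group G] [Fintype G]
variable {F : Type*} [Field F] [Fintype F] [CharP F p]
variable (Z : Datum G F p)
variable {M : Type*} [AddCommGroup M] [Module k M]

/-- The action of a group element. -/
noncomputable abbrev ga (A : MonoidAlgebra k G →ₐ[k] Module.End k M) (g : G) : M →ₗ[k] M := A (g' k g)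

theorem ga_mul (A : MonoidAlgebra k G →ₐ[k] Module.End k M) (a b : G) (v : M) :
    ga A (a * b) v = ga A a (ga A b v) := by
  simp only [ga, g', map_mul, Module.End.mul_apply]

theorem ga_one (A : MonoidAlgebra k G →ₐ[k] Module.End k M) (v : M) : ga A 1 v = v := by
  simp only [ga, g', map_one, Module.End.one_apply]

/-- The sum over a root subgroup, applied to a vector. -/
noncomputable def xsum (A : MonoidAlgebra k G →ₐ[k] Module.End k M) (i : Z.ι) (v : M) : M :=
  ∑ t : F, ga A ((Z.R i).x t) v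

/-- The Hecke operator of a fundamental root. -/
noncomputable def op (k : Type*) [Field k] (i : Z.ι) : MonoidAlgebra k G :=
  (∑ t : F, g' k ((Z.R i).x t)) * g' k ((Z.R i).n 1)

theorem op_apply (A : MonoidAlgebra k G →ₐ[k] Module.End k M) (i : Z.ι) (v : M) :
    A (op Z k i) v = xsum Z A i (ga A ((Z.R i).n 1) v) := by
  simp only [op, xsum, ga, map_mul, map_sum, Module.End.mul_apply, LinearMap.sum_apply]

/-- A vector fixed by `U` which is an eigenvector of the `h_i(a)`. -/
structure PreWt (A : MonoidAlgebra k G →ₐ[k] Module.End k M) (lam : Z.ι → Fˣ → k) (v : M) : Prop where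
  fix : ∀ u ∈ Z.U, ga A u v = v
  eig : ∀ i a, ga A ((Z.R i).h a) v = lam i a • v

/-- A weight vector. -/
structure IsWt (A : MonoidAlgebra k G →ₐ[k] Module.End k M) (lam : Z.ι → Fˣ → k) (μ : Z.ι → k) (v : M) : Prop
    extends PreWt Z A lam v where
  hecke : ∀ i, A (op Z k i) v = μ i • v

variable {Z}
variable {A : MonoidAlgebra k G →ₐ[k] Module.End k M} {lam : Z.ι → Fˣ → k} {μ : Z.ι → k} {v : M}

theorem card_eq_zero' (k : Type*) [Field k] (F : Type*) [Field F] [Fintype F] (p : ℕ) [CharP k p]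
    [CharP F p] : ((Fintype.card F : ℕ) : k) = 0 := by
  obtain ⟨n, -, hn⟩ := FiniteField.card F p
  rw [hn, Nat.cast_pow, CharP.cast_eq_zero k p, zero_pow n.ne_zero]

theorem xsum_x (i : Z.ι) (a : F) (w : M) :
    xsum Z A i (ga A ((Z.R i).x a) w) = xsum Z A i w := by
  refine Fintype.sum_equiv (Equiv.addRight a) _ _ fun t => ?_
  rw [← ga_mul, ← (Z.R i).x_add]
  rfl

/-- The quadratic relation. -/
theorem op_op (hv : PreWt Z A lam v) (i : Z.ι) :
    A (op Z k i) (A (op Z k i) v) = (∑ a : Fˣ, lam i a) • A (op Z k i) v := by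
  set R := Z.R i with hR
  set S := xsum Z A i with hS
  have hSadd : ∀ (f : F → M), S (∑ b, f b) = ∑ b, S (f b) := fun f => by
    simp only [hS, xsum, map_sum]
    exact Finset.sum_comm
  have hSsm : ∀ (c : k) (w : M), S (c • w) = c • S w := fun c w => by
    simp only [hS, xsum, map_smul, Finset.smul_sum]
  have hSx : ∀ a w, S (ga A (R.x a) w) = S w := fun a w => xsum_x i a w
  conv_lhs => rw [op_apply, op_apply, show xsum Z A i (ga A (R.n 1) v) =
    ∑ b : F, ga A (R.x b) (ga A (R.n 1) v) from rfl, map_sum]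
  rw [← hS, hSadd, Fintype.sum_eq_add_sum_compl (0 : F), Finset.sum_smul]
  have h0 : S (ga A (R.n 1) (ga A (R.x 0) (ga A (R.n 1) v))) = 0 := by
    rw [R.x_zero, ga_one, ← ga_mul, R.n_sq, hv.eig, hSsm]
    have : S v = ((Fintype.card F : ℕ) : k) • v := by
      rw [hS, xsum, Finset.sum_congr rfl (fun t _ => hv.fix _ (Z.hx i t)), Finset.sum_const,
        Nat.cast_smul_eq_nsmul, Finset.card_univ]
    rw [this, card_eq_zero' k F p, zero_smul, smul_zero]
  rw [h0, zero_add]
  refine Finset.sum_bij' (fun (a : F) ha => -(Units.mk0 a (by simpa using ha)))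
    (fun (t : Fˣ) _ => -(t : F)) (fun _ _ => Finset.mem_univ _) (fun t _ => by simp)
    (fun a ha => by simp) (fun t _ => Units.ext (by simp)) (fun a ha => ?_)
  set s : Fˣ := Units.mk0 a (by simpa using ha) with hs
  rw [show a = (s : F) from rfl, op_apply, ← hS]
  have e : R.n 1 * R.x (s : F) * R.n 1 =
      R.x (-(↑s⁻¹ : F)) * (R.n 1 * (R.h (-s) * R.x (-(↑s⁻¹ : F)))) := by
    have h1 : R.y (↑s⁻¹ : F) * R.n 1 = R.n 1 * R.x (-(↑s⁻¹ : F)) := by
      rw [R.n_x, neg_neg]
    have h2 : R.h (-s⁻¹) * R.n 1 = R.n 1 * R.h (-s) := by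
      rw [R.n_h]; simp
    rw [rankOne_nx, mul_assoc (R.x _ * _), h1, mul_assoc (R.x _), ← mul_assoc (R.h _), h2,
      mul_assoc (R.n 1)]
  calc S (ga A (R.n 1) (ga A (R.x (s : F)) (ga A (R.n 1) v)))
      = S (ga A (R.n 1 * R.x (s : F) * R.n 1) v) := by rw [ga_mul, ga_mul]
    _ = _ := by rw [e, ga_mul, hSx, ga_mul, ga_mul, hv.fix _ (Z.hx i _), hv.eig, map_smul, hSsm]

theorem lam_mul (hv : PreWt Z A lam v) (hv0 : v ≠ 0) (i : Z.ι) (a b : Fˣ) :
    lam i (a * b) = lam i a * lam i b := by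
  have h := hv.eig i (a * b)
  rw [(Z.R i).h_mul, ga_mul, hv.eig, map_smul, hv.eig, smul_smul] at h
  have := smul_left_injective k hv0 h
  rw [← this, mul_comm]

theorem lam_one' (hv : PreWt Z A lam v) (hv0 : v ≠ 0) (i : Z.ι) : lam i 1 = 1 := by
  have h := hv.eig i 1
  rw [(Z.R i).h_one, ga_one] at h
  exact (smul_left_injective k hv0 (h.symm.trans (one_smul k v).symm))

/-- The characters of a weight. -/
noncomputable def lamHom (hv : PreWt Z A lam v) (hv0 : v ≠ 0) (i : Z.ι) : Fˣ →* kˣ :=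
  MonoidHom.toHomUnits
    { toFun := lam i, map_one' := lam_one' hv hv0 i, map_mul' := lam_mul hv hv0 i }

theorem lamHom_apply (hv : PreWt Z A lam v) (hv0 : v ≠ 0) (i : Z.ι) (a : Fˣ) :
    (lamHom hv hv0 i a : k) = lam i a := rfl

/-! ### The span of the translates under `V` -/

variable (Z) in
/-- The span of the translates under `V`. -/
noncomputable def tspan (A : MonoidAlgebra k G →ₐ[k] Module.End k M) (v : M) : Submodule k M :=
  Submodule.span k (Set.range fun u : Z.V => ga A (u : G) v)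

theorem mem_tspan {u : G} (hu : u ∈ Z.V) : ga A u v ∈ tspan Z A v :=
  Submodule.subset_span ⟨⟨u, hu⟩, rfl⟩

theorem self_mem_tspan : v ∈ tspan Z A v := by
  have h := mem_tspan (A := A) (v := v) Z.V.one_mem
  rwa [ga_one] at h

theorem n_mem (hv : IsWt Z A lam μ v) (i : Z.ι) : ga A ((Z.R i).n 1) v ∈ tspan Z A v := by
  have h := hv.hecke i
  rw [op_apply, xsum, Fintype.sum_eq_add_sum_compl (0 : F), (Z.R i).x_zero, ga_one,
    ← eq_sub_iff_add_eq] at h
  rw [h]
  refine Submodule.sub_mem _ (Submodule.smul_mem _ _ self_mem_tspan)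
    (Submodule.sum_mem _ fun a ha => ?_)
  rw [← ga_mul, show a = ((Units.mk0 a (by simpa using ha) : Fˣ) : F) from rfl, rankOne_xn,
    ga_mul, ga_mul, hv.fix _ (Z.hx i _), hv.eig, map_smul]
  exact Submodule.smul_mem _ _ (mem_tspan (Z.hy i _))

theorem V_stable {u : G} (hu : u ∈ Z.V) {w : M} (hw : w ∈ tspan Z A v) :
    ga A u w ∈ tspan Z A v := by
  induction hw using Submodule.span_induction with
  | mem x hx =>
    obtain ⟨u', rfl⟩ := hx
    show ga A u (ga A (u' : G) v) ∈ _
    rw [← ga_mul]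
    exact mem_tspan (Z.V.mul_mem hu u'.2)
  | zero => simp
  | add x y _ _ hx hy => rw [map_add]; exact Submodule.add_mem _ hx hy
  | smul c x _ hx => rw [map_smul]; exact Submodule.smul_mem _ _ hx

theorem xy_mem (hv : IsWt Z A lam μ v) (i : Z.ι) (t s : F) :
    ga A ((Z.R i).x t) (ga A ((Z.R i).y s) v) ∈ tspan Z A v := by
  by_cases hs : s = 0
  · subst hs
    rw [← (Z.R i).hom_l, show (RankOne.l (0 : F)) = 1 from Subtype.ext (by
      simp [RankOne.l, Matrix.one_fin_two]), map_one, ga_one, hv.fix _ (Z.hx i t)]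
    exact self_mem_tspan
  set u : Fˣ := Units.mk0 s hs
  have e1 : ga A ((Z.R i).y s) v =
      lam i (-u) • ga A ((Z.R i).x ↑u⁻¹) (ga A ((Z.R i).n 1) v) := by
    have hy := rankOne_y (Z.R i) u
    rw [show s = (u : F) from rfl, hy]
    have hhn : (Z.R i).h (-u⁻¹) * (Z.R i).n 1 = (Z.R i).n 1 * (Z.R i).h (-u) := by
      rw [(Z.R i).n_h]; simp
    rw [mul_assoc ((Z.R i).x ↑u⁻¹), hhn, ga_mul, ga_mul, ga_mul, hv.fix _ (Z.hx i _), hv.eig,
      map_smul, map_smul]
  rw [e1, map_smul, ← ga_mul, ← (Z.R i).x_add]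
  refine Submodule.smul_mem _ _ ?_
  by_cases ht : t + ↑u⁻¹ = 0
  · rw [ht, (Z.R i).x_zero, ga_one]; exact n_mem hv i
  · rw [← ga_mul, show t + ↑u⁻¹ = ((Units.mk0 _ ht : Fˣ) : F) from rfl, rankOne_xn, ga_mul,
      ga_mul, hv.fix _ (Z.hx i _), hv.eig, map_smul]
    exact Submodule.smul_mem _ _ (mem_tspan (Z.hy i _))

theorem x_stable (hv : IsWt Z A lam μ v) (i : Z.ι) (t : F) {w : M} (hw : w ∈ tspan Z A v) :
    ga A ((Z.R i).x t) w ∈ tspan Z A v := by
  induction hw using Submodule.span_induction with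
  | mem x hx =>
    obtain ⟨u, rfl⟩ := hx
    obtain ⟨w, s, hw, hconj⟩ := Z.hVsplit i _ u.2
    show ga A ((Z.R i).x t) (ga A (u : G) v) ∈ _
    rw [← ga_mul, hw, show (Z.R i).x t * (w * (Z.R i).y s) =
      ((Z.R i).x t * w * ((Z.R i).x t)⁻¹) * ((Z.R i).x t * (Z.R i).y s) by group,
      ga_mul A _ ((Z.R i).x t * (Z.R i).y s), ga_mul A ((Z.R i).x t) ((Z.R i).y s)]
    exact V_stable (hconj t) (xy_mem hv i t s)
  | zero => simp
  | add x y _ _ hx hy => rw [map_add]; exact Submodule.add_mem _ hx hy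
  | smul c x _ hx => rw [map_smul]; exact Submodule.smul_mem _ _ hx

theorem tspan_stable (hv : IsWt Z A lam μ v) (g : G) :
    ∀ w ∈ tspan Z A v, ga A g w ∈ tspan Z A v := by
  have hg : g ∈ Subgroup.closure {g : G | ∃ i t, g = (Z.R i).x t ∨ g = (Z.R i).y t} := by
    rw [Z.hgen]; exact Subgroup.mem_top g
  induction hg using Subgroup.closure_induction_left with
  | one => intro w hw; rwa [ga_one]
  | mul_left x hx y _ ih =>
    intro w hw
    rw [ga_mul]
    obtain ⟨i, t, rfl | rfl⟩ := hx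
    · exact x_stable hv i t (ih w hw)
    · exact V_stable (Z.hy i t) (ih w hw)
  | inv_mul_cancel x hx y _ ih =>
    intro w hw
    rw [ga_mul]
    obtain ⟨i, t, rfl | rfl⟩ := hx
    · rw [← (Z.R i).x_neg]; exact x_stable hv i _ (ih w hw)
    · exact V_stable (Z.V.inv_mem (Z.hy i t)) (ih w hw)

theorem stable_all (hv : IsWt Z A lam μ v) (a : MonoidAlgebra k G) :
    ∀ w ∈ tspan Z A v, A a w ∈ tspan Z A v := by
  induction a using MonoidAlgebra.induction_on with
  | of g => exact tspan_stable hv g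
  | add x y hx hy =>
    intro w hw; rw [map_add, LinearMap.add_apply]; exact Submodule.add_mem _ (hx w hw) (hy w hw)
  | smul c x hx =>
    intro w hw; rw [map_smul, LinearMap.smul_apply]; exact Submodule.smul_mem _ _ (hx w hw)

/-! ### Simple representations -/

/-- No invariant subspaces. -/
def IsSimpleRep (A : MonoidAlgebra k G →ₐ[k] Module.End k M) : Prop :=
  ∀ W : Submodule k M, (∀ a, ∀ w ∈ W, A a w ∈ W) → W = ⊥ ∨ W = ⊤

theorem tspan_eq_top (hA : IsSimpleRep A) (hv : IsWt Z A lam μ v) (hv0 : v ≠ 0) :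
    tspan Z A v = ⊤ :=
  (hA _ (stable_all hv)).resolve_left fun h => hv0 (by
    have := self_mem_tspan (Z := Z) (A := A) (v := v)
    rwa [h, Submodule.mem_bot] at this)

/-- The contragredient representation of the group. -/
noncomputable def dualHom (A : MonoidAlgebra k G →ₐ[k] Module.End k M) : G →* Module.End k (Module.Dual k M) where
  toFun g := (ga A g⁻¹).dualMap
  map_one' := by
    ext φ w
    show φ (ga A 1⁻¹ w) = φ w
    rw [inv_one, ga_one]
  map_mul' a b := by
    ext φ w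
    show φ (ga A (a * b)⁻¹ w) = φ (ga A b⁻¹ (ga A a⁻¹ w))
    rw [mul_inv_rev, ga_mul]

/-- The contragredient representation. -/
noncomputable def dualRep (A : MonoidAlgebra k G →ₐ[k] Module.End k M) :
    MonoidAlgebra k G →ₐ[k] Module.End k (Module.Dual k M) :=
  MonoidAlgebra.lift k (Module.End k (Module.Dual k M)) G (dualHom A)

theorem ga_dual (A : MonoidAlgebra k G →ₐ[k] Module.End k M) (g : G) (φ : Module.Dual k M) (w : M) :
    ga (dualRep A) g φ w = φ (ga A g⁻¹ w) := by
  simp only [ga, g', dualRep, MonoidAlgebra.lift_of]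
  rfl

theorem dual_simple [FiniteDimensional k M] (hA : IsSimpleRep A) : IsSimpleRep (M := Module.Dual k M) (dualRep A) := by
  intro W hW
  have hinv : ∀ a, ∀ w ∈ W.dualCoannihilator, A a w ∈ W.dualCoannihilator := by
    intro a w hw
    induction a using MonoidAlgebra.induction_on with
    | of g =>
      rw [Submodule.mem_dualCoannihilator] at hw ⊢
      intro φ hφ
      have h := hw _ (hW (g' k g⁻¹) φ hφ)
      change ga (dualRep A) g⁻¹ φ w = 0 at h
      rwa [ga_dual, inv_inv] at h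
    | add x y hx hy => rw [map_add, LinearMap.add_apply]; exact Submodule.add_mem _ hx hy
    | smul c x hx => rw [map_smul, LinearMap.smul_apply]; exact Submodule.smul_mem _ _ hx
  have hW' := Subspace.dualCoannihilator_dualAnnihilator_eq (W := W)
  rcases hA _ hinv with h | h
  · exact Or.inr (by rw [← hW', h, Submodule.dualAnnihilator_bot])
  · exact Or.inl (by rw [← hW', h, Submodule.dualAnnihilator_top])

/-- The vectors fixed by `V` are seen by a weight of the dual. -/
theorem eq_zero_of_dual (hA : IsSimpleRep (M := Module.Dual k M) (dualRep A)) {lam' : Z.ι → Fˣ → k} {μ' : Z.ι → k}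
    {φ : Module.Dual k M} (hφ : IsWt Z (M := Module.Dual k M) (dualRep A) lam' μ' φ) (hφ0 : φ ≠ 0) {w : M}
    (hw : ∀ u ∈ Z.V, ga A u w = w) (h0 : φ w = 0) : w = 0 := by
  have hall : ∀ ψ ∈ tspan Z (dualRep A) φ, ψ w = 0 := by
    intro ψ hψ
    induction hψ using Submodule.span_induction with
    | mem x hx =>
      obtain ⟨u, rfl⟩ := hx
      show ga (dualRep A) (u : G) φ w = 0
      rw [ga_dual, hw _ (Z.V.inv_mem u.2), h0]
    | zero => simp
    | add x y _ _ hx hy => rw [LinearMap.add_apply, hx, hy, add_zero]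
    | smul c x _ hx => rw [LinearMap.smul_apply, hx, smul_zero]
  rw [← Module.forall_dual_apply_eq_zero_iff k w]
  intro ψ
  exact hall ψ (by rw [tspan_eq_top hA hφ hφ0]; exact Submodule.mem_top)

/-- At most one line is fixed by `U`. -/
theorem fixed_unique [FiniteDimensional k M] (hA : IsSimpleRep A) {lam' : Z.ι → Fˣ → k}
    {μ' : Z.ι → k} {φ : Module.Dual k M} (hφ : IsWt Z (M := Module.Dual k M) (dualRep A) lam' μ' φ) (hφ0 : φ ≠ 0)
    {v w : M} (hv : ∀ u ∈ Z.U, ga A u v = v) (hv0 : v ≠ 0) (hw : ∀ u ∈ Z.U, ga A u w = w) :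
    ∃ c : k, w = c • v := by
  have hmove : ∀ z : M, (∀ u ∈ Z.U, ga A u z = z) →
      ∀ u ∈ Z.V, ga A u (ga A Z.n0 z) = ga A Z.n0 z := by
    intro z hz u hu
    have hu' : Z.n0⁻¹ * u * Z.n0 ∈ Z.U := by rw [Z.hlong]; simpa [mul_assoc] using hu
    conv_rhs => rw [← hz _ hu']
    rw [← ga_mul, ← ga_mul]
    congr 2
    group
  have hinj : ∀ z, ga A Z.n0 z = 0 → z = 0 := fun z hz => by
    have := congrArg (ga A Z.n0⁻¹) hz
    rwa [map_zero, ← ga_mul, inv_mul_cancel, ga_one] at this
  have hd := dual_simple hA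
  set a := φ (ga A Z.n0 v)
  have ha : a ≠ 0 := fun h => hv0 (hinj _ (eq_zero_of_dual hd hφ hφ0 (hmove v hv) h))
  set c := φ (ga A Z.n0 w) / a
  refine ⟨c, ?_⟩
  rw [← sub_eq_zero]
  refine hinj _ (eq_zero_of_dual hd hφ hφ0 (hmove _ fun u hu => ?_) ?_)
  · rw [map_sub, map_smul, hv u hu, hw u hu]
  · simp only [map_sub, map_smul, smul_eq_mul, c]
    field_simp
    ring

/-- A simple representation has at most one weight. -/
theorem wt_unique [FiniteDimensional k M] (hA : IsSimpleRep A) {lam' lam₂ : Z.ι → Fˣ → k}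
    {μ' μ₂ : Z.ι → k} {φ : Module.Dual k M} (hφ : IsWt Z (M := Module.Dual k M) (dualRep A) lam' μ' φ) (hφ0 : φ ≠ 0)
    (hv : IsWt Z A lam μ v) (hv0 : v ≠ 0) {w : M} (hw : IsWt Z A lam₂ μ₂ w) (hw0 : w ≠ 0) :
    lam = lam₂ ∧ μ = μ₂ := by
  obtain ⟨c, rfl⟩ := fixed_unique hA hφ hφ0 hv.fix hv0 hw.fix
  constructor
  · funext i a
    have h := hw.eig i a
    rw [map_smul, hv.eig, smul_comm] at h
    exact smul_left_injective k hw0 h
  · funext i
    have h := hw.hecke i
    rw [map_smul, hv.hecke, smul_comm] at h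
    exact smul_left_injective k hw0 h

/-! ### Two representations which are jointly onto -/

/-- Functionals fixed by `V` do not vanish on a generating vector. -/
theorem fixed_functional_ne {ψ : Module.Dual k M} (htop : tspan Z A v = ⊤) (hψ : ψ ≠ 0)
    (hfix : ∀ u ∈ Z.V, ∀ x, ψ (ga A u x) = ψ x) : ψ v ≠ 0 := by
  intro h0
  apply hψ
  refine LinearMap.ext fun x => ?_
  have hx : x ∈ tspan Z A v := by rw [htop]; exact Submodule.mem_top
  induction hx using Submodule.span_induction with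
  | mem y hy => obtain ⟨u, rfl⟩ := hy; exact (hfix _ u.2 v).trans h0
  | zero => simp
  | add y y' _ _ hy hy' => rw [map_add, hy, hy']; simp
  | smul c y _ hy => rw [map_smul, hy]; simp

/-- A nonzero functional fixed by `V`. -/
theorem exists_fixed_functional (Z : Datum G F p) (A : MonoidAlgebra k G →ₐ[k] Module.End k M)
    {z : M} (hz : z ≠ 0) :
    ∃ ψ : Module.Dual k M, ψ ≠ 0 ∧ ∀ u ∈ Z.V, ∀ x, ψ (ga A u x) = ψ x := by
  obtain ⟨f, hf⟩ : ∃ f : Module.Dual k M, f z ≠ 0 := by
    by_contra! h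
    exact hz ((Module.forall_dual_apply_eq_zero_iff k z).1 h)
  obtain ⟨ψ, -, hψ, hfix⟩ := CfsgLib.Blocks.exists_fixed_vector Z.hV
    ((dualHom A).comp Z.V.subtype) (v := f) (fun h => hf (by rw [h]; rfl)) ⊤ trivial
    (fun _ _ _ => trivial)
  refine ⟨ψ, hψ, fun u hu x => ?_⟩
  have := LinearMap.congr_fun (hfix ⟨u⁻¹, Z.V.inv_mem hu⟩) x
  change ψ (ga A u⁻¹⁻¹ x) = ψ x at this
  rwa [inv_inv] at this

variable {M' : Type*} [AddCommGroup M'] [Module k M']

/-- A pair of representations with the same weight is not jointly onto. -/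
theorem wt_pair {A' : MonoidAlgebra k G →ₐ[k] Module.End k M'} (hA : IsSimpleRep A) (hA' : IsSimpleRep A')
    (hsep : ∃ a : MonoidAlgebra k G, A a = 1 ∧ A' a = 0) (hv : IsWt Z A lam μ v) (hv0 : v ≠ 0) {v' : M'}
    (hv' : IsWt Z A' lam μ v') (hv0' : v' ≠ 0) : False := by
  obtain ⟨ψ, hψ, hψV⟩ := exists_fixed_functional Z A hv0
  obtain ⟨ψ', hψ', hψV'⟩ := exists_fixed_functional Z A' hv0'
  have ha := fixed_functional_ne (tspan_eq_top hA hv hv0) hψ hψV
  have hb := fixed_functional_ne (tspan_eq_top hA' hv' hv0') hψ' hψV'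
  let B : MonoidAlgebra k G →ₐ[k] Module.End k (M × M') := (LinearMap.prodMapAlgHom k M M').comp (A.prod A')
  have hB : ∀ a x, B a x = (A a x.1, A' a x.2) := fun a x => rfl
  have hw : IsWt Z B lam μ (v, v') :=
    { fix := fun u hu => by
        show B _ (v, v') = _
        rw [hB]; exact Prod.ext (hv.fix u hu) (hv'.fix u hu)
      eig := fun i a => by
        show B _ (v, v') = _
        rw [hB]; exact Prod.ext (hv.eig i a) (hv'.eig i a)
      hecke := fun i => by rw [hB]; exact Prod.ext (hv.hecke i) (hv'.hecke i) }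
  let Ψ : M × M' →ₗ[k] k :=
    (ψ' v') • (ψ.comp (LinearMap.fst k M M')) - (ψ v) • (ψ'.comp (LinearMap.snd k M M'))
  have hΨ : ∀ x ∈ tspan Z B (v, v'), Ψ x = 0 := by
    intro x hx
    induction hx using Submodule.span_induction with
    | mem y hy =>
      obtain ⟨u, rfl⟩ := hy
      show ψ' v' * ψ (ga A (u : G) v) - ψ v * ψ' (ga A' (u : G) v') = 0
      rw [hψV _ u.2, hψV' _ u.2]
      ring
    | zero => simp
    | add y y' _ _ hy hy' => rw [map_add, hy, hy', add_zero]
    | smul c y _ hy => rw [map_smul, hy, smul_zero]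
  obtain ⟨a, h1, h2⟩ := hsep
  have hmem := stable_all hw a _ self_mem_tspan
  rw [hB, h1, h2] at hmem
  have h := hΨ _ hmem
  change ψ' v' * ψ v - ψ v * ψ' 0 = 0 at h
  rw [map_zero, mul_zero, sub_zero] at h
  exact mul_ne_zero hb ha h

end CfsgLib.ModularWeights
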